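import Cfsg.Agent.Lib.LocalEvenA.Gold.Walk

/-!
Critical walks of even length.
-/

set_option autoImplicit false

namespace Cfsg.Agent.LocalEvenA.Gold

open Subgroup Cfsg Agent.LocalEvenA Cfsg.Agent.LocalEvenB.ZN

variable {G : Type*} [Group G] {T A B W : Subgroup G}

/-- The common part of the cores of a vertex and its neighbours. -/
noncomputable def kW (v : CosetVertex A B) : Subgroup G :=
  rv v ⊓ ⨅ e : {e // (cosetGraph A B).Adj v e}, rv e.1

theorem mem_kW {v : CosetVertex A B} {g : G} :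
    g ∈ kW v ↔ g ∈ rv v ∧ ∀ e, (cosetGraph A B).Adj v e → g ∈ rv e := by
  simp only [kW, mem_inf, mem_iInf]
  exact and_congr_right fun _ => ⟨fun h e he => h ⟨e, he⟩, fun h e => h e.1 e.2⟩

variable [Finite G]

namespace Mix

theorem kW_conj {v : CosetVertex A B} {g x : G} (hg : g ∈ MulAction.stabilizer G v)
    (hx : x ∈ kW v) : g * x * g⁻¹ ∈ kW v := by
  obtain ⟨h1, h2⟩ := mem_kW.1 hx
  have hgv := MulAction.mem_stabilizer_iff.1 hg
  refine mem_kW.2 ⟨?_, fun e he => ?_⟩
  · have := (mem_rv_smul (g := g) (x := x) (v := v)).2 h1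
    rwa [hgv] at this
  · have he' : (cosetGraph A B).Adj v (g⁻¹ • e) := by
      have := cg_adj_smul g⁻¹ he
      rwa [inv_smul_eq_iff.2 hgv.symm] at this
    have := (mem_rv_smul (g := g) (x := x) (v := g⁻¹ • e)).2 (h2 _ he')
    rwa [smul_inv_smul] at this

theorem kW_smul {v : CosetVertex A B} {g x : G} (hx : x ∈ kW v) : g * x * g⁻¹ ∈ kW (g • v) := by
  obtain ⟨h1, h2⟩ := mem_kW.1 hx
  refine mem_kW.2 ⟨mem_rv_smul.2 h1, fun e he => ?_⟩
  have he' : (cosetGraph A B).Adj v (g⁻¹ • e) := by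
    simpa using cg_adj_smul g⁻¹ he
  have := (mem_rv_smul (g := g) (x := x) (v := g⁻¹ • e)).2 (h2 _ he')
  rwa [smul_inv_smul] at this

theorem relIndex_rv_le (h : Mix T A B W) {v u : CosetVertex A B}
    (ha : (cosetGraph A B).Adj v u) : (rv u).relIndex (rv v) ≤ 2 := by
  have h2 : (rv u).relIndex (MulAction.stabilizer G u ⊓ MulAction.stabilizer G v) = 2 :=
    (h.loc ha.symm).idxR
  exact (relIndex_le_of_le_right (le_inf (h.rv_le_stab ha) (pCoreOf_le' 2 _)) (by omega)).trans h2.le

theorem card_rv_all (h : Mix T A B W) (v : CosetVertex A B) :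
    2 * Nat.card (rv v) = Nat.card T := by
  have key : ∀ {R E : Subgroup G}, R ≤ E → R.relIndex E = 2 → 2 * Nat.card R = Nat.card E := by
    intro R E hle hi
    rw [mul_comm, ← hi, ← relIndex_bot_left, ← relIndex_bot_left]
    exact relIndex_mul_relIndex ⊥ R E bot_le hle
  obtain ⟨u, hu⟩ := exists_nbr v
  have h1 := key (h.loc hu).R_le_T (h.loc hu).idxR
  show 2 * Nat.card (pCoreOf 2 (MulAction.stabilizer G v)) = Nat.card T
  rw [h1]
  obtain ⟨x, ⟨rfl, rfl⟩ | ⟨rfl, rfl⟩⟩ := (cg_adj_iff _ _).1 hu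
  · rw [cg_stab_inl, cg_stab_inr, ← Subgroup.map_inf _ _ _ (MulAut.conj x).injective, h.inter,
      card_map_of_injective (MulAut.conj x).injective]
  · rw [cg_stab_inl, cg_stab_inr, inf_comm, ← Subgroup.map_inf _ _ _ (MulAut.conj x).injective,
      h.inter, card_map_of_injective (MulAut.conj x).injective]

/-- The two ends of a critical walk joining active vertices. -/
theorem comm_end (h : Mix T A B W) {a v β a' : CosetVertex A B} (hav : (cosetGraph A B).Adj a v)
    (hβ : (cosetGraph A B).Adj a' β) (ha : a.isLeft = true) (ha' : a'.isLeft = true)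
    (h1 : wW T W a ≤ MulAction.stabilizer G a' ⊓ MulAction.stabilizer G β)
    (h2 : wW T W a' ≤ MulAction.stabilizer G a ⊓ MulAction.stabilizer G v)
    (h5 : ¬ wW T W a ≤ rv a') :
    ¬ wW T W a' ≤ rv a ∧ zel A B T W v = zel A B T W β := by
  have hsa := h.side hav ha
  have hsb := h.side hβ ha'
  obtain ⟨x, hx, hxn⟩ := SetLike.not_le_iff_exists.1 h5
  obtain ⟨x', hx', hne⟩ : ∃ x' ∈ wW T W a', x' * x ≠ x * x' := by
    by_contra hc
    push Not at hc
    exact hxn (h.mem_rv hβ ha' (h1 hx).1 hc)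
  refine ⟨fun hle => hne (hsa.R_commute (hle hx') hx).symm, ?_⟩
  have k1 := h.ptv_cases hav ha (hsa.comm_mem_pt (h2 hx') hx)
  have k2 : x' * x * x'⁻¹ * x⁻¹ = 1 ∨ x' * x * x'⁻¹ * x⁻¹ = (zel A B T W β)⁻¹ := by
    rw [show x' * x * x'⁻¹ * x⁻¹ = (x * x' * x⁻¹ * x'⁻¹)⁻¹ by group]
    rcases h.ptv_cases hβ ha' (hsb.comm_mem_pt (h1 hx) hx') with e | e
    · exact Or.inl (by rw [e, inv_one])
    · exact Or.inr (by rw [e])
  have hk0 : x' * x * x'⁻¹ * x⁻¹ ≠ 1 := fun e =>
    hne (mul_inv_eq_iff_eq_mul.1 (mul_inv_eq_one.1 e))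
  rw [← k1.resolve_left hk0, k2.resolve_left hk0,
    inv_eq_of_mul_eq_one_right (hsb.sq _ (h.zel_mem hβ ha'))]

variable {b : ℕ}

theorem even_end (h : Mix T A B W) (hb : BelowA A B T W b) (hb2 : 2 ≤ b) (heven : b % 2 = 0)
    {f : ℕ → CosetVertex A B} (hf : NB b f) (h0 : (f 0).isLeft = true) (hc : Crit T W b f) :
    ¬ wW T W (f b) ≤ rv (f 0) ∧ zel A B T W (f 1) = zel A B T W (f (b - 1)) := by
  have ha' : (f b).isLeft = true := hf.left h0 le_rfl heven
  have hβ : (cosetGraph A B).Adj (f b) (f (b - 1)) := by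
    have := hf.1 (b - 1) (by omega)
    rw [show b - 1 + 1 = b by omega] at this
    exact this.symm
  exact h.comm_end (hf.1 0 (by omega)) hβ h0 ha'
    (le_inf (h.w_stab hb h0 (hf.near (Nat.zero_le b) le_rfl) (by omega) (by omega))
      (h.w_stab hb h0 (hf.near (Nat.zero_le (b - 1)) (by omega)) (by omega) (by omega)))
    (le_inf (h.w_stab hb ha' (hf.near (Nat.zero_le b) le_rfl).symm (by omega) (by omega))
      (h.w_stab hb ha' (hf.near (show 1 ≤ b by omega) le_rfl).symm (by omega) (by omega))) hc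

/-- Generic normality: the neighbouring four-groups cannot be normalised by a moving element. -/
theorem kill_span (h : Mix T A B W) (hb : BelowA A B T W b) (hb1 : 1 < b) {a δ : CosetVertex A B}
    (ha : (cosetGraph A B).Adj a δ) (hl : a.isLeft = true) {t : G}
    (ht : t ∈ MulAction.stabilizer G a) (htδ : t • δ ≠ δ)
    (hU : ∀ ε, (cosetGraph A B).Adj δ ε → ∀ w ∈ wW T W ε, t * w * t⁻¹ ∈ vW T W δ) : False := by
  have hδr := right_of_left ha hl
  have hUδ : vW T W δ ≤ rv δ :=
    iSup_le fun e => hb 1 hb1 _ _ (left_of_right e.2 hδr) (Near.one e.2.symm)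
  have htn : t ∈ normalizer (vW T W δ : Set G) := by
    refine LocalEvenB.mem_normalizer_of_conjMap_le ?_
    conv_lhs => rw [vW, Subgroup.map_iSup]
    refine iSup_le fun e => ?_
    rintro _ ⟨w, hw, rfl⟩
    exact hU _ e.2 w hw
  have hn := h.norm_of_move ha (inf_le_right.trans (h.stab_le_normalizer_vW δ)) ht htδ htn
  have h0 := h.noNormal_edge ha (le_inf (hUδ.trans (h.rv_le_stab ha.symm))
    (hUδ.trans (pCoreOf_le' 2 _))) hn (h.stab_le_normalizer_vW δ)
  have hW : wW T W a ≤ vW T W δ := le_vW ha.symm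
  rw [h0, le_bot_iff] at hW
  have := (h.side ha hl).card_W
  rw [hW, card_bot] at this
  omega

/-- A point centralised by an element moving it. -/
theorem kill_point (h : Mix T A B W) (hb : BelowA A B T W b) (hb1 : 1 < b)
    {a δ : CosetVertex A B} (ha : (cosetGraph A B).Adj a δ) (hl : a.isLeft = true) {t : G}
    (ht : t ∈ MulAction.stabilizer G a)
    (htδ : t • δ ≠ δ) : t * zel A B T W δ ≠ zel A B T W δ * t :=
  fun e => htδ (h.smul_eq_of_comm ha hl ht e)

/-- The critical distance four or more is not even. -/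
theorem no_even_long (h : Mix T A B W) (hb : BelowA A B T W b) (hb4 : 4 ≤ b) (heven : b % 2 = 0)
    {f : ℕ → CosetVertex A B} (hf : NB b f) (h0 : (f 0).isLeft = true) (hc : Crit T W b f) :
    False := by
  obtain ⟨hrev, hz⟩ := h.even_end hb (by omega) heven hf h0 hc
  obtain ⟨t, ht, hta⟩ := SetLike.not_le_iff_exists.1 hrev
  have ha' : (f b).isLeft = true := hf.left h0 le_rfl heven
  have htfix : ∀ i, i ≤ b → t • f i = f i := fun i hi =>
    h.w_stab hb ha' (hf.near hi le_rfl).symm (by omega) (by omega) ht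
  have hav := hf.1 0 (by omega)
  obtain ⟨δ, hδ, hδv, -⟩ := h.exists_nbr_ne hav (f 1)
  have htδ : t • δ ≠ δ :=
    h.moves_of_not_rv hav hδ (Ne.symm hδv) (htfix 0 (by omega)) (htfix 1 (by omega)) hta
  have hδr := right_of_left hδ h0
  have hnb1 : NB (b - 2 + 1) (cons δ f) :=
    (hf.mono (by omega)).cons hδ.symm (Or.inr hδv)
  have hwalk : ∀ ε, (cosetGraph A B).Adj δ ε → ε ≠ f 0 → NB b (cons ε (cons δ f)) := by
    intro ε hε hne
    have := hnb1.cons (x := ε) hε.symm (Or.inr (by exact hne))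
    rwa [show b - 2 + 1 + 1 = b by omega] at this
  have hbb : ∀ ε, cons ε (cons δ f) b = f (b - 2) := by
    intro ε
    rw [show b = (b - 2) + 1 + 1 by omega]
    rfl
  have hb1 : ∀ ε, cons ε (cons δ f) (b - 1) = f (b - 3) := by
    intro ε
    rw [show b - 1 = (b - 3) + 1 + 1 by omega]
    rfl
  have hb2' : ∀ ε, cons ε (cons δ f) 1 = δ := fun ε => rfl
  -- critical shifts are impossible
  have hnoshift : ∀ ε, (cosetGraph A B).Adj δ ε → wW T W ε ≤ rv (f (b - 2)) := by
    intro ε hε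
    have hεl := left_of_right hε hδr
    by_contra hcon
    by_cases hne : ε = f 0
    · exact hcon (hne ▸ hb _ (by omega) _ _ h0 (hf.near (Nat.zero_le _) (by omega)))
    have hcr : Crit T W b (cons ε (cons δ f)) := by
      show ¬ wW T W ε ≤ rv (cons ε (cons δ f) b)
      rw [hbb]; exact hcon
    have hze := (h.even_end hb (by omega) heven (hwalk ε hε hne) hεl hcr).2
    rw [hb2', hb1] at hze
    refine kill_point h hb (by omega) hδ h0 (htfix 0 (by omega)) htδ ?_
    rw [hze]
    have hadj : (cosetGraph A B).Adj (f (b - 2)) (f (b - 3)) := by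
      have := hf.1 (b - 3) (by omega)
      rw [show b - 3 + 1 = b - 2 by omega] at this
      exact this.symm
    have hxl : (f (b - 2)).isLeft = true := hf.left h0 (by omega) (by omega)
    exact h.w_comm hb ha' hxl (hf.near (Nat.sub_le b 2) le_rfl).symm (by omega) ht
      (h.zel_mem hadj hxl)
  by_cases hall : ∀ ε, (cosetGraph A B).Adj δ ε → wW T W ε ≤ rv (f (b - 1))
  · refine h.kill_span hb (by omega) hδ h0 (htfix 0 (by omega)) htδ fun ε hε w hw => ?_
    have hadj : (cosetGraph A B).Adj (f b) (f (b - 1)) := by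
      have := hf.1 (b - 1) (by omega)
      rw [show b - 1 + 1 = b by omega] at this
      exact this.symm
    have hwR := hall ε hε hw
    rw [← inv_mul_cancel_right (t * w * t⁻¹) w]
    refine mul_mem ?_ (le_vW hε hw)
    rw [show t * w * t⁻¹ * w⁻¹ = (w * t * w⁻¹ * t⁻¹)⁻¹ by group]
    refine inv_mem (le_vW hδ.symm ?_)
    rcases h.comm_cases hadj ha' (h.rv_le_stab hadj.symm hwR) (pCoreOf_le' 2 _ hwR) ht with e | e
    · rw [e, mul_inv_cancel]; exact one_mem _
    · rw [e, mul_inv_cancel_right, ← hz]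
      exact h.zel_mem hav h0
  -- otherwise all walks of length `b` from active vertices are critical
  push Not at hall
  obtain ⟨ε, hε, hεβ⟩ := hall
  obtain ⟨w, hw, hwn⟩ := SetLike.not_le_iff_exists.1 hεβ
  have hεl := left_of_right hε hδr
  have hne : ε ≠ f 0 := fun e =>
    hεβ (e ▸ hb _ (by omega) _ _ h0 (hf.near (Nat.zero_le _) (by omega)))
  have hnb := hwalk ε hε hne
  have hwfix : ∀ i, i ≤ b - 1 → w • f i = f i := by
    intro i hi
    rcases Nat.lt_or_ge (b - 2) i with h1 | h1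
    · have hwx := hnoshift ε hε hw
      have hadj := hf.1 (b - 2) (by omega)
      rw [show b - 2 + 1 = b - 1 by omega] at hadj
      rw [show i = b - 1 by omega]
      exact h.rv_le_stab hadj hwx
    · have hn := hnb.near (Nat.zero_le (i + 2)) (by omega)
      exact h.w_stab hb hεl (n := i + 2) hn (by omega) (by omega) hw
  have m1 : Mov A B false (b - 1) := ⟨f, w, hf.mono (Nat.sub_le b 1),
    hf.right h0 (Nat.sub_le b 1) (by omega), hwfix, hwn⟩
  have m2 : Mov A B true (b - 1) := mov_mono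
    (⟨fun i => f (b - i), t, hf.rev, by simpa using h0, fun i _ => htfix _ (Nat.sub_le b i),
      by simpa using hta⟩ : Mov A B true b) (Nat.sub_le b 1)
  have hcr := h.crit_of_mov (b := b) (n := b - 1) (by omega) m2 m1 hf hc hnb (h0.trans hεl.symm)
  refine hcr ?_
  show wW T W ε ≤ rv (cons ε (cons δ f) b)
  rw [hbb]
  exact hnoshift ε hε

/-- Critical distance two. -/
theorem even_two (h : Mix T A B W) (hb : BelowA A B T W 2)
    {f : ℕ → CosetVertex A B} (hf : NB 2 f) (h0 : (f 0).isLeft = true) (hc : Crit T W 2 f) :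
    Nat.card T ≤ 128 := by
  obtain ⟨hrev, -⟩ := h.even_end hb le_rfl rfl hf h0 hc
  obtain ⟨t, ht, hta⟩ := SetLike.not_le_iff_exists.1 hrev
  have ha' : (f 2).isLeft = true := hf.left h0 le_rfl rfl
  have hav := hf.1 0 (by omega)
  have hva' := hf.1 1 (by omega)
  have hvr : (f 1).isLeft = false := right_of_left hav h0
  obtain ⟨c, hc', hc1, hc2⟩ := h.exists_nbr_ne hav.symm (f 2)
  have hcount : ∀ v : CosetVertex A B, ∀ x y z, (cosetGraph A B).Adj v x →
      (cosetGraph A B).Adj v y → (cosetGraph A B).Adj v z → x ≠ y → x ≠ z → y ≠ z →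
      (kW v).relIndex (rv v) ≤ 8 := by
    intro v x y z hx hy hz hxy hxz hyz
    have heq : kW v = rv v ⊓ (rv x ⊓ (rv y ⊓ rv z)) := by
      ext g
      rw [mem_kW, mem_inf, mem_inf, mem_inf]
      refine and_congr_right fun _ => ⟨fun hg => ⟨hg x hx, hg y hy, hg z hz⟩, fun hg e he => ?_⟩
      rcases h.nbr3 hx hy hz he hxy hxz hyz with rfl | rfl | rfl
      exacts [hg.1, hg.2.1, hg.2.2]
    rw [heq, inf_relIndex_left]
    calc (rv x ⊓ (rv y ⊓ rv z)).relIndex (rv v)
        ≤ (rv x).relIndex (rv v) * (rv y ⊓ rv z).relIndex (rv v) := relIndex_inf_le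
      _ ≤ 2 * (2 * 2) := Nat.mul_le_mul (h.relIndex_rv_le hx)
          (relIndex_inf_le.trans (Nat.mul_le_mul (h.relIndex_rv_le hy) (h.relIndex_rv_le hz)))
      _ = 8 := by norm_num
  obtain ⟨y, hy, hyv, -⟩ : ∃ g, (cosetGraph A B).Adj (f 0) g ∧ g ≠ f 1 ∧ g ≠ f 1 :=
    h.exists_nbr_ne hav (f 1)
  obtain ⟨g, hg, hgv⟩ := cg_transitive_nbrs (f 0) (f 1) y hav hy
  -- sizes
  have hcard : ∀ v : CosetVertex A B, Nat.card (rv v) = Nat.card (rv (f 0)) := fun v => by
    have h1 := h.card_rv_all v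
    have h2 := h.card_rv_all (f 0)
    omega
  have hsize : ∀ v : CosetVertex A B, (cosetGraph A B).Adj (f 0) v →
      kW v ≤ rv (f 0) ∧ Nat.card (rv (f 0)) ≤ 8 * Nat.card (kW v) := by
    intro v hv
    obtain ⟨p, hp, hp0, -⟩ := h.exists_nbr_ne hv.symm (f 0)
    obtain ⟨q, hq, hq0, hqp⟩ := h.exists_nbr_ne hv.symm p
    refine ⟨fun x hx => (mem_kW.1 hx).2 _ hv.symm, ?_⟩
    have h1 := hcount v (f 0) p q hv.symm hp hq (Ne.symm hp0) (Ne.symm hq0) (Ne.symm hqp)
    have h2 := relIndex_mul_relIndex ⊥ (kW v) (rv v) bot_le inf_le_left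
    rw [relIndex_bot_left, relIndex_bot_left, hcard v] at h2
    rw [← h2, mul_comm 8]
    exact Nat.mul_le_mul_left _ h1
  obtain ⟨hK1, hc1'⟩ := hsize (f 1) hav
  obtain ⟨hK2, hc2'⟩ := hsize _ hy
  -- the two kernels meet trivially
  have hM : kW (f 1) ⊓ kW y = ⊥ := by
    by_contra hne
    set M := kW (f 1) ⊓ kW y
    set R := rv (f 0) with hR
    have hMR : M ≤ R := inf_le_left.trans hK1
    have hRn : R ≤ normalizer (M : Set G) := by
      intro r hr
      refine LocalEvenB.mem_normalizer_of_conj_mem fun m hm => ⟨?_, ?_⟩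
      · exact kW_conj (h.rv_le_stab hav hr) hm.1
      · exact kW_conj (h.rv_le_stab hy hr) hm.2
    haveI : Fact (Nat.Prime 2) := ⟨Nat.prime_two⟩
    have hRp : IsPGroup 2 R := pCoreOf_isPGroup' 2 _
    haveI := hRp.isNilpotent
    haveI : (M.subgroupOf R).Normal := normal_subgroupOf_of_le_normalizer hRn
    obtain ⟨z, hzM, hzc, hz1⟩ := LocalEvenB.exists_mem_center_ne_one (M.subgroupOf R) (by
      intro h'
      rw [subgroupOf_eq_bot, disjoint_iff, inf_eq_left.2 hMR] at h'
      exact hne h')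
    -- an involution among the powers
    obtain ⟨n, hn⟩ := IsPGroup.iff_orderOf.1 hRp z
    rcases n with _ | n
    · exact hz1 (orderOf_eq_one_iff.1 (by simpa using hn))
    set w : R := z ^ 2 ^ n
    have hw2 : orderOf w = 2 := by
      rw [orderOf_pow' _ (by positivity), hn, pow_succ, Nat.gcd_mul_right_left,
        Nat.mul_div_cancel_left _ (by positivity)]
    have hwM : (w : G) ∈ M := by
      have := pow_mem hzM (2 ^ n)
      exact mem_subgroupOf.1 this
    have hwc : ∀ r ∈ R, r * (w : G) = w * r := fun r hr =>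
      congrArg Subtype.val (mem_center_iff.1 (pow_mem hzc (2 ^ n)) ⟨r, hr⟩)
    have hww : (w : G) * w = 1 := by
      have := pow_orderOf_eq_one w
      rw [hw2, sq] at this
      exact congrArg Subtype.val this
    have hedge : ∀ v x : CosetVertex A B, ∀ t : G, (cosetGraph A B).Adj (f 0) v →
        (cosetGraph A B).Adj v x → x.isLeft = true → t ∈ wW T W x → t • f 0 = f 0 → t • v = v →
        t ∉ R → (w : G) ∈ kW v →
        ∀ e ∈ MulAction.stabilizer G (f 0) ⊓ MulAction.stabilizer G v, e * (w : G) = w * e := by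
      intro v x t hv hx hxl htx ht0 htv htR hwv e he
      have htw : t * (w : G) = w * t :=
        (h.side hx.symm hxl).R_commute ((mem_kW.1 hwv).2 x hx) htx
      by_cases heR : e ∈ R
      · exact hwc e heR
      · have het : e * t ∈ R := (h.loc hv).mul_mem_R he ⟨ht0, htv⟩ heR htR
        have h3 : Commute (e * t * t⁻¹) (w : G) :=
          Commute.mul_left (hwc _ het) (show Commute t (w : G) from htw).inv_left
        simpa using h3.eq
    have ht0 : t • f 0 = f 0 :=
      h.w_stab hb ha' (hf.near (Nat.zero_le 2) le_rfl).symm le_rfl (by omega) ht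
    have htv : t • f 1 = f 1 :=
      h.w_stab hb ha' (hf.near (show 1 ≤ 2 by omega) le_rfl).symm (by omega) (by omega) ht
    have e1 := hedge (f 1) (f 2) t hav hva' ha' ht ht0 htv hta hwM.1
    have hgf0 : g • f 0 = f 0 := hg
    have hy2 : (cosetGraph A B).Adj y (g • f 2) := by
      rw [← hgv]; exact cg_adj_smul g hva'
    have hgt : g * t * g⁻¹ ∈ wW T W (g • f 2) := by
      rw [h.wW_smul]; exact LocalEvenB.conjMap_apply_mem ht
    have e2 := hedge y (g • f 2) (g * t * g⁻¹) hy hy2 (by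
        rw [right_of_left hy h0 |> left_of_right hy2])
      hgt (by rw [mul_smul, mul_smul, inv_smul_eq_iff.2 hgf0.symm, ht0, hgf0])
      (by rw [← hgv, mul_smul, inv_smul_smul, mul_smul, htv])
      (fun hh => hta (by
        have := (mem_rv_smul (g := g⁻¹) (x := g * t * g⁻¹) (v := f 0)).2 hh
        rw [inv_smul_eq_iff.2 hgf0.symm] at this
        simpa [mul_assoc] using this))
      hwM.2
    obtain ⟨s, hs, hsR⟩ := (h.loc hy).exists_T_not_R
    have hsmove := h.moves_of_not_rv hy hav hyv hs.1 hs.2 hsR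
    have hall := h.cent_of_move hav e1 hs.1 hsmove (e2 s hs)
    have hwE : (w : G) ∈ MulAction.stabilizer G (f 0) ⊓ MulAction.stabilizer G (f 1) :=
      (h.loc hav).R_le_T w.2
    have := h.z_kill hav h0 hwE hww hall
    rw [show (w : G) = ((w : R) : G) from rfl, OneMemClass.coe_eq_one] at this
    rw [this, orderOf_one] at hw2
    omega
  have h1 := relIndex_mul_relIndex ⊥ (kW y) (rv (f 0)) bot_le hK2
  rw [relIndex_bot_left, relIndex_bot_left] at h1
  have h2 : Nat.card (kW (f 1)) ≤ (kW y).relIndex (rv (f 0)) := by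
    have h3 : (kW y).relIndex (kW (f 1)) ≤ (kW y).relIndex (rv (f 0)) :=
      relIndex_le_of_le_right hK1 (fun e => index_ne_zero_of_finite e)
    rwa [← inf_relIndex_left, hM, relIndex_bot_left] at h3
  have h3 : (kW y).relIndex (rv (f 0)) ≤ 8 := by
    by_contra h4
    push Not at h4
    have hpos : 0 < Nat.card (kW y) := Nat.card_pos
    nlinarith
  have := h.card_rv_all (f 0)
  omega

end Mix

end Cfsg.Agent.LocalEvenA.Gold
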