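import Cfsg.Agent.Lib.LocalEvenA.Gold.Even

/-!
Critical walks of odd length: mirror walks, and criticality of all walks from length five on.
-/

set_option autoImplicit false

namespace Cfsg.Agent.LocalEvenA.Gold

open Subgroup Cfsg Agent.LocalEvenA Cfsg.Agent.LocalEvenB.ZN

variable {G : Type*} [Group G] {T A B W : Subgroup G}

/-- A critical walk of odd length at least three. -/
structure OddCrit (A B T W : Subgroup G) (b : ℕ) (f : ℕ → CosetVertex A B) : Prop where
  below : BelowA A B T W b
  odd : b % 2 = 1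
  three : 3 ≤ b
  nb : NB b f
  start : (f 0).isLeft = true
  crit : Crit T W b f

/-- The mirror walk. -/
def mir (b : ℕ) (f : ℕ → CosetVertex A B) (γ : CosetVertex A B) : ℕ → CosetVertex A B :=
  fun i => snoc b f γ (b + 1 - i)

theorem mir_zero (b : ℕ) (f : ℕ → CosetVertex A B) (γ : CosetVertex A B) : mir b f γ 0 = γ :=
  snoc_gt (by omega)

theorem mir_succ (b : ℕ) (f : ℕ → CosetVertex A B) (γ : CosetVertex A B) {i : ℕ} (hi : 1 ≤ i) :
    mir b f γ i = f (b + 1 - i) :=
  snoc_le (by omega)

theorem cons_cons {α : Type*} [Group α] {A' B' : Subgroup α} (ε δ : CosetVertex A' B')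
    (f : ℕ → CosetVertex A' B') {n : ℕ} (hn : 2 ≤ n) : cons ε (cons δ f) n = f (n - 2) := by
  obtain ⟨m, rfl⟩ : ∃ m, n = m + 2 := ⟨n - 2, by omega⟩
  rfl

variable [Finite G] {b : ℕ}

namespace Mix

theorem w_fix (h : Mix T A B W) (hb : BelowA A B T W b) (hb1 : 1 ≤ b)
    {f : ℕ → CosetVertex A B} (hf : NB b f) (h0 : (f 0).isLeft = true) {w : G}
    (hw : w ∈ wW T W (f 0)) {i : ℕ} (hi : i ≤ b) : w • f i = f i :=
  h.w_stab hb h0 (hf.near (Nat.zero_le i) hi) (by omega) hb1 hw

theorem adj_pred {n : ℕ} {f : ℕ → CosetVertex A B} (hf : NB n f) {i : ℕ} (h1 : 1 ≤ i)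
    (hi : i ≤ n) : (cosetGraph A B).Adj (f i) (f (i - 1)) := by
  have := hf.1 (i - 1) (by omega)
  rw [show i - 1 + 1 = i by omega] at this
  exact this.symm

end Mix

namespace OddCrit

variable {f : ℕ → CosetVertex A B}

theorem last_right (c : OddCrit A B T W b f) : (f b).isLeft = false :=
  c.nb.right c.start le_rfl c.odd

theorem pred_left (c : OddCrit A B T W b f) : (f (b - 1)).isLeft = true :=
  c.nb.left c.start (Nat.sub_le b 1) (by have := c.odd; omega)

theorem first_mem (c : OddCrit A B T W b f) (h : Mix T A B W) :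
    zel A B T W (f 1) ∈ rv (f b) := by
  have h3 := c.three
  exact c.below (b - 2) (by omega) _ _ (c.nb.left c.start (i := 2) (by omega) rfl)
    (c.nb.near (by omega) le_rfl) (h.zel_mem (c.nb.1 1 (by omega)).symm
      (c.nb.left c.start (i := 2) (by omega) rfl))

/-- The outside elements of the four-group at the start. -/
theorem mem_iff (c : OddCrit A B T W b f) (h : Mix T A B W) {w : G} (hw : w ∈ wW T W (f 0)) :
    w ∈ rv (f b) ↔ w = 1 ∨ w = zel A B T W (f 1) := by
  refine ⟨fun hR => ?_, fun e => ?_⟩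
  · have hav := c.nb.1 0 (by have := c.three; omega)
    obtain ⟨δ, hδ, hδv, -⟩ := h.exists_nbr_ne hav (f 1)
    rcases h.w_cases hav hδ c.start (Ne.symm hδv) hw with e | e | e | e
    · exact Or.inl e
    · exact Or.inr e
    · exfalso
      refine c.crit fun x hx => ?_
      rcases h.w_cases hav hδ c.start (Ne.symm hδv) hx with e' | e' | e' | e' <;> rw [e']
      · exact one_mem _
      · exact c.first_mem h
      · exact e ▸ hR
      · exact mul_mem (c.first_mem h) (e ▸ hR)
    · exfalso
      have hz : zel A B T W δ ∈ rv (f b) := by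
        have := mul_mem (inv_mem (c.first_mem h)) (e ▸ hR)
        rwa [inv_mul_cancel_left] at this
      refine c.crit fun x hx => ?_
      rcases h.w_cases hav hδ c.start (Ne.symm hδv) hx with e' | e' | e' | e' <;> rw [e']
      · exact one_mem _
      · exact c.first_mem h
      · exact hz
      · exact mul_mem (c.first_mem h) hz
  · rcases e with rfl | rfl
    · exact one_mem _
    · exact c.first_mem h

theorem exists_s (c : OddCrit A B T W b f) : ∃ s, s ∈ wW T W (f 0) ∧ s ∉ rv (f b) :=
  SetLike.not_le_iff_exists.1 c.crit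

/-- The mirror of a critical walk is critical. -/
theorem rev (c : OddCrit A B T W b f) (h : Mix T A B W) {γ : CosetVertex A B}
    (hγ : (cosetGraph A B).Adj (f b) γ) (hne : γ ≠ f (b - 1)) :
    OddCrit A B T W b (mir b f γ) := by
  have h3 := c.three
  have hnb1 : NB (b + 1) (snoc b f γ) := c.nb.snoc hγ (Or.inr (Ne.symm hne))
  have hk : NB (b + 1) (mir b f γ) := hnb1.rev
  refine ⟨c.below, c.odd, c.three, hk.mono (Nat.le_succ b), ?_, fun hle => ?_⟩
  · rw [mir_zero]; exact Mix.left_of_right hγ c.last_right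
  rw [mir_zero, mir_succ b f γ (by omega), show b + 1 - b = 1 by omega] at hle
  obtain ⟨s, hs, hsn⟩ := c.exists_s
  have hsfix : ∀ i, i ≤ b → s • f i = f i := fun i hi =>
    h.w_fix c.below (by omega) c.nb c.start hs hi
  have hβ : (cosetGraph A B).Adj (f b) (f (b - 1)) := Mix.adj_pred c.nb (by omega) le_rfl
  have hall : ∀ γ', (cosetGraph A B).Adj (f b) γ' → γ' ≠ f (b - 1) →
      wW T W γ' ≤ rv (f 1) := by
    intro γ' hγ' hne'
    by_cases e : γ' = γ
    · exact e ▸ hle
    have hmove := h.moves_of_not_rv hβ hγ (Ne.symm hne) (hsfix b le_rfl) (hsfix _ (Nat.sub_le b 1)) hsn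
    have hsg : (cosetGraph A B).Adj (f b) (s • γ) := by
      have := cg_adj_smul s hγ
      rwa [hsfix b le_rfl] at this
    have heq : s • γ = γ' := by
      rcases h.nbr3 hβ hγ hγ' hsg (Ne.symm hne) (Ne.symm hne') (Ne.symm e) with e1 | e1 | e1
      · exact absurd (MulAction.injective s (e1.trans (hsfix _ (Nat.sub_le b 1)).symm)) hne
      · exact absurd e1 hmove
      · exact e1
    rw [← heq, h.wW_smul, ← hsfix 1 (by omega), rv_smul]
    exact map_mono hle
  -- some of these act nontrivially on the four-group at the start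
  obtain ⟨γ₀, hγ₀, hne₀, hact⟩ : ∃ γ₀, (cosetGraph A B).Adj (f b) γ₀ ∧ γ₀ ≠ f (b - 1) ∧
      ¬ wW T W γ₀ ≤ rv (f 0) := by
    by_contra hcon
    push Not at hcon
    have hmove := h.moves_of_not_rv hβ hγ (Ne.symm hne) (hsfix b le_rfl) (hsfix _ (Nat.sub_le b 1)) hsn
    refine h.wW_ne c.last_right hγ (cg_adj_smul s hγ |> fun e => by rwa [hsfix b le_rfl] at e)
      (Ne.symm hmove) ?_
    refine le_antisymm ?_ ?_
    · intro x hx
      rw [h.wW_smul]
      refine ⟨x, hx, ?_⟩
      show s * x * s⁻¹ = x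
      rw [(h.side (c.nb.1 0 (by omega)) c.start).R_commute (hcon γ hγ hne hx) hs,
        mul_inv_cancel_right]
    · intro x hx
      rw [h.wW_smul] at hx
      obtain ⟨y, hy, rfl⟩ := hx
      show s * y * s⁻¹ ∈ _
      rw [(h.side (c.nb.1 0 (by omega)) c.start).R_commute (hcon γ hγ hne hy) hs,
        mul_inv_cancel_right]
      exact hy
  obtain ⟨u, hu, hun⟩ := SetLike.not_le_iff_exists.1 hact
  have hk0 : NB (b + 1) (mir b f γ₀) := (c.nb.snoc hγ₀ (Or.inr (Ne.symm hne₀))).rev
  have hγl : γ₀.isLeft = true := Mix.left_of_right hγ₀ c.last_right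
  have hufix : ∀ i, i ≤ b + 1 → u • mir b f γ₀ i = mir b f γ₀ i := by
    intro i hi
    rcases Nat.lt_or_ge b i with h1 | h1
    · rw [show i = b + 1 by omega, mir_succ b f γ₀ (by omega), Nat.sub_self]
      exact h.rv_le_stab (c.nb.1 0 (by omega)).symm (hall γ₀ hγ₀ hne₀ hu)
    · exact h.w_fix c.below (by omega) (hk0.mono (Nat.le_succ b))
        (by rw [mir_zero]; exact hγl) (by rw [mir_zero]; exact hu) h1
  have hend : mir b f γ₀ (b + 1) = f 0 := by rw [mir_succ b f γ₀ (by omega), Nat.sub_self]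
  have m1 : Mov A B true (b + 1) :=
    ⟨mir b f γ₀, u, hk0, by rw [hend]; exact c.start, hufix, by rw [hend]; exact hun⟩
  have m2 : Mov A B false b := ⟨f, s, c.nb, c.last_right, hsfix, hsn⟩
  have hcr := h.crit_of_mov (b := b) (n := b) (Nat.le_succ b)
    (Mix.mov_mono m1 (Nat.le_succ b)) m2 c.nb c.crit (hk0.mono (Nat.le_succ b))
    (by rw [mir_zero, hγl]; exact c.start)
  refine hcr ?_
  rw [mir_zero, mir_succ b f γ₀ (by omega), show b + 1 - b = 1 by omega]
  exact hall γ₀ hγ₀ hne₀

end OddCrit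

namespace Mix

/-- A mover into an active vertex makes all walks critical. -/
theorem crit_of_movA (h : Mix T A B W) {f k : ℕ → CosetVertex A B} (c : OddCrit A B T W b f)
    {n : ℕ} (hn : b ≤ n + 1) (hm : Mov A B true n) (hk : NB b k) (hk0 : (k 0).isLeft = true) :
    Crit T W b k := by
  obtain ⟨s, hs, hsn⟩ := c.exists_s
  have h3 := c.three
  have m2 : Mov A B false b :=
    ⟨f, s, c.nb, c.last_right, fun i hi => h.w_fix c.below (by omega) c.nb c.start hs hi, hsn⟩
  exact h.crit_of_mov (b := b) (n := b - 1) (by omega) (mov_mono hm (by omega))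
    (mov_mono m2 (Nat.sub_le b 1)) c.nb c.crit hk (c.start.trans hk0.symm)

/-- One critical shift beyond `δ` makes all of them critical. -/
theorem shifts_of_one (h : Mix T A B W) {f : ℕ → CosetVertex A B} (c : OddCrit A B T W b f)
    {δ ε ε' : CosetVertex A B} (hδ : (cosetGraph A B).Adj (f 0) δ) (hδv : δ ≠ f 1)
    (hε : (cosetGraph A B).Adj δ ε) (hne : ε ≠ f 0) (hε' : (cosetGraph A B).Adj δ ε')
    (hne' : ε' ≠ f 0) (hcr : Crit T W b (cons ε (cons δ f))) :
    Crit T W b (cons ε' (cons δ f)) := by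
  have h3 := c.three
  have hnb1 : NB (b - 2 + 1) (cons δ f) := (c.nb.mono (by omega)).cons hδ.symm (Or.inr hδv)
  have hS : NB b (cons ε (cons δ f)) := by
    have := hnb1.cons (x := ε) hε.symm (Or.inr (by exact hne))
    rwa [show b - 2 + 1 + 1 = b by omega] at this
  have hSlast : cons ε (cons δ f) b = f (b - 2) := by
    rw [show b = b - 2 + 1 + 1 by omega]; rfl
  have hSpred : cons ε (cons δ f) (b - 1) = f (b - 3) := by
    rw [show b - 1 = b - 3 + 1 + 1 by omega]; rfl
  have cS : OddCrit A B T W b (cons ε (cons δ f)) :=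
    ⟨c.below, c.odd, c.three, hS, left_of_right hε (right_of_left hδ c.start), hcr⟩
  have hadj : (cosetGraph A B).Adj (f (b - 2)) (f (b - 3)) := by
    have := adj_pred c.nb (i := b - 2) (by omega) (by omega)
    rwa [show b - 2 - 1 = b - 3 by omega] at this
  obtain ⟨γ, hγ, hγne, -⟩ := h.exists_nbr_ne hadj (f (b - 3))
  have cR := cS.rev h (γ := γ) (by rw [hSlast]; exact hγ) (by rw [hSpred]; exact hγne)
  have hRlast : mir b (cons ε (cons δ f)) γ b = δ := by
    rw [mir_succ _ _ _ (by omega), show b + 1 - b = 1 by omega]; rfl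
  have hRpred : mir b (cons ε (cons δ f)) γ (b - 1) = f 0 := by
    rw [mir_succ _ _ _ (by omega), show b + 1 - (b - 1) = 2 by omega]; rfl
  have cR2 := cR.rev h (γ := ε') (by rw [hRlast]; exact hε') (by rw [hRpred]; exact hne')
  refine (crit_congr ?_ ?_).1 cR2.crit
  · rw [mir_zero]; rfl
  · rw [mir_succ _ _ _ (by omega), show b + 1 - b = 1 by omega, mir_succ _ _ _ le_rfl,
      show b + 1 - 1 = b by omega, cons_cons _ _ _ (by omega), cons_cons _ _ _ (by omega)]

/-- Every shift of a critical walk is critical, unless every walk is. -/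
theorem shift_crit (h : Mix T A B W) {f : ℕ → CosetVertex A B} (c : OddCrit A B T W b f)
    (hb5 : 5 ≤ b) {δ ε : CosetVertex A B} (hδ : (cosetGraph A B).Adj (f 0) δ) (hδv : δ ≠ f 1)
    (hε : (cosetGraph A B).Adj δ ε) (hne : ε ≠ f 0) :
    Crit T W b (cons ε (cons δ f)) := by
  have hav := c.nb.1 0 (by omega)
  have hδr := right_of_left hδ c.start
  have hwalk : ∀ ε', (cosetGraph A B).Adj δ ε' → ε' ≠ f 0 → NB b (cons ε' (cons δ f)) := by
    intro ε' hε' hne'
    have := ((c.nb.mono (show b - 2 ≤ b by omega)).cons hδ.symm (Or.inr hδv)).cons (x := ε')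
      hε'.symm (Or.inr (by exact hne'))
    rwa [show b - 2 + 1 + 1 = b by omega] at this
  have hlast : ∀ ε', cons ε' (cons δ f) b = f (b - 2) := by
    intro ε'
    rw [show b = b - 2 + 1 + 1 by omega]; rfl
  by_contra hcon
  have hall : ∀ ε', (cosetGraph A B).Adj δ ε' → wW T W ε' ≤ rv (f (b - 2)) := by
    intro ε' hε'
    by_cases hne' : ε' = f 0
    · exact hne' ▸ c.below _ (by omega) _ _ c.start (c.nb.near (Nat.zero_le _) (by omega))
    · by_contra hc
      refine hcon (h.shifts_of_one c hδ hδv hε' hne' hε hne ?_)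
      show ¬ wW T W ε' ≤ rv (cons ε' (cons δ f) b)
      rw [hlast]; exact hc
  have nomov : ∀ n, b ≤ n + 1 → ¬ Mov A B true n := fun n hn hm =>
    hcon (h.crit_of_movA c hn hm (hwalk ε hε hne) (left_of_right hε hδr))
  have hadj2 : (cosetGraph A B).Adj (f (b - 2)) (f (b - 1)) := by
    have := c.nb.1 (b - 2) (by omega)
    rwa [show b - 2 + 1 = b - 1 by omega] at this
  -- the neighbours of `δ` fix the walk
  have hfixε : ∀ ε', (cosetGraph A B).Adj δ ε' → ∀ w ∈ wW T W ε', ∀ i, i ≤ b - 1 →
      w • f i = f i := by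
    intro ε' hε' w hw i hi
    by_cases hne' : ε' = f 0
    · exact h.w_fix c.below (by omega) c.nb c.start (hne' ▸ hw) (by omega)
    rcases Nat.lt_or_ge (b - 2) i with h1 | h1
    · rw [show i = b - 1 by omega]
      exact h.rv_le_stab hadj2 (hall ε' hε' hw)
    · exact h.w_stab c.below (left_of_right hε' hδr) (n := i + 2)
        ((hwalk ε' hε' hne').near (Nat.zero_le (i + 2)) (by omega)) (by omega) (by omega) hw
  have hVR : vW T W δ ≤ rv (f (b - 1)) := iSup_le fun e => by
    intro w hw
    by_contra hwn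
    exact nomov (b - 1) (by omega)
      ⟨f, w, c.nb.mono (Nat.sub_le b 1), c.pred_left, hfixε e.1 e.2 w hw, hwn⟩
  have hVfix : ∀ i, i ≤ b - 1 → vW T W δ ≤ MulAction.stabilizer G (f i) := fun i hi =>
    iSup_le fun e w hw => hfixε e.1 e.2 w hw i hi
  -- the mirror element
  have hβ := adj_pred c.nb (show 1 ≤ b by omega) le_rfl
  obtain ⟨γ, hγ, hγne, -⟩ := h.exists_nbr_ne hβ (f (b - 1))
  have cR := c.rev h hγ hγne
  obtain ⟨u, hu, hun⟩ := cR.exists_s
  rw [mir_zero] at hu
  rw [mir_succ b f γ (by omega), show b + 1 - b = 1 by omega] at hun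
  have hufix : ∀ i, 1 ≤ i → i ≤ b → u • f i = f i := by
    intro i h1 h2
    have := h.w_fix c.below (by omega) cR.nb cR.start (by rw [mir_zero]; exact hu)
      (i := b + 1 - i) (by omega)
    rwa [mir_succ b f γ (by omega), show b + 1 - (b + 1 - i) = i by omega] at this
  obtain ⟨s, hs, hsn⟩ := c.exists_s
  set Y := vW T W (f 1) ⊔ vW T W δ with hY
  have hsY : s ∈ vW T W (f 1) := le_vW hav.symm hs
  have huV : u ∈ normalizer (vW T W (f 1) : Set G) :=
    h.stab_le_normalizer_vW _ (hufix 1 le_rfl (by omega))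
  have hconj : ∀ x ∈ vW T W δ, u * x * u⁻¹ ∈ Y := by
    intro x hx
    have hxS : x ∈ MulAction.stabilizer G (f b) := h.rv_le_stab hβ.symm (hVR hx)
    have key : ∀ y : G, y ∈ rv (f b) → (∀ i, i ≤ b → y • f i = f i) → u * y * u⁻¹ = y := by
      intro y hyR hyfix
      have hyγ : y • γ = γ := h.rv_le_stab hγ hyR
      by_cases hyγR : y ∈ rv γ
      · rw [(h.side hγ.symm (left_of_right hγ c.last_right)).R_commute hyγR hu,
          mul_inv_cancel_right]
      · exfalso
        refine nomov (b + 1) (by omega) ⟨snoc b f γ, y, c.nb.snoc hγ (Or.inr (Ne.symm hγne)),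
          by rw [snoc_gt (by omega)]; exact left_of_right hγ c.last_right, fun i hi => ?_,
          by rw [snoc_gt (by omega)]; exact hyγR⟩
        rcases Nat.lt_or_ge b i with h1 | h1
        · rw [snoc_gt h1]; exact hyγ
        · rw [snoc_le h1]; exact hyfix i h1
    have hxfix : ∀ i, i ≤ b → x • f i = f i := by
      intro i hi
      rcases Nat.lt_or_ge (b - 1) i with h1 | h1
      · rw [show i = b by omega]; exact hxS
      · exact hVfix i h1 hx
    by_cases hxR : x ∈ rv (f b)
    · rw [key x hxR hxfix]; exact mem_sup_right hx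
    · have hxs : x * s ∈ rv (f b) := (h.loc hβ).mul_mem_R ⟨hxS, hxfix _ (Nat.sub_le b 1)⟩
        ⟨h.w_fix c.below (by omega) c.nb c.start hs le_rfl,
          h.w_fix c.below (by omega) c.nb c.start hs (Nat.sub_le b 1)⟩ hxR hsn
      have h1 := key _ hxs fun i hi => by
        rw [mul_smul, h.w_fix c.below (by omega) c.nb c.start hs hi, hxfix i hi]
      rw [show u * x * u⁻¹ = (u * (x * s) * u⁻¹) * (u * s⁻¹ * u⁻¹) by group, h1]
      exact mul_mem (mul_mem (mem_sup_right hx) (mem_sup_left hsY))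
        (mem_sup_left ((mem_normalizer_iff.1 huV _).1 (inv_mem hsY)))
  have huY : u ∈ normalizer (Y : Set G) := by
    refine LocalEvenB.mem_normalizer_of_conjMap_le ?_
    rw [hY, Subgroup.map_sup]
    refine sup_le ?_ ?_
    · rintro _ ⟨x, hx, rfl⟩
      exact mem_sup_left ((mem_normalizer_iff.1 huV x).1 hx)
    · rintro _ ⟨x, hx, rfl⟩
      exact hconj x hx
  obtain ⟨q, hq, hqv⟩ := h.exists_rv_not_rv hav
  have hqY : q ∈ normalizer (Y : Set G) := by
    refine LocalEvenB.mem_normalizer_of_conjMap_le ?_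
    rw [hY, Subgroup.map_sup, LocalEvenB.conjMap_eq_of_mem_normalizer
      (h.stab_le_normalizer_vW _ (h.rv_le_stab hav hq)),
      LocalEvenB.conjMap_eq_of_mem_normalizer (h.stab_le_normalizer_vW _ (h.rv_le_stab hδ hq))]
  -- `Y` lies under every neighbour of `f 1`
  set H : CosetVertex A B → Subgroup G :=
    fun x => ⨆ e : {e // (cosetGraph A B).Adj x e}, vW T W e.1 with hH
  have hH0 : Y ≤ H (f 0) := sup_le
    (le_iSup (fun e : {e // (cosetGraph A B).Adj (f 0) e} => vW T W e.1) ⟨f 1, hav⟩)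
    (le_iSup (fun e : {e // (cosetGraph A B).Adj (f 0) e} => vW T W e.1) ⟨δ, hδ⟩)
  have hHsmul : ∀ (g : G) x, (H x).map (MulAut.conj g).toMonoidHom ≤ H (g • x) := by
    intro g x
    rw [hH, Subgroup.map_iSup]
    refine iSup_le fun e => ?_
    rw [h.vW_smul]
    exact le_iSup (fun e : {e // (cosetGraph A B).Adj (g • x) e} => vW T W e.1)
      ⟨g • e.1, cg_adj_smul g e.2⟩
  have hstep : ∀ (g : G) x, g ∈ normalizer (Y : Set G) → Y ≤ H x → Y ≤ H (g • x) := by
    intro g x hg hx
    calc Y = Y.map (MulAut.conj g).toMonoidHom := (LocalEvenB.conjMap_eq_of_mem_normalizer hg).symm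
      _ ≤ (H x).map (MulAut.conj g).toMonoidHom := map_mono hx
      _ ≤ H (g • x) := hHsmul g x
  have hv0 := hufix 1 le_rfl (by omega)
  have hv2 := hufix 2 (by omega) (by omega)
  have hf2 : (cosetGraph A B).Adj (f 1) (f 2) := c.nb.1 1 (by omega)
  have h02 : f 0 ≠ f 2 := c.nb.2 0 (by omega)
  have humove := h.moves_of_not_rv hf2 hav.symm h02.symm hv0 hv2 hun
  have hua : (cosetGraph A B).Adj (f 1) (u • f 0) := by
    have := cg_adj_smul u hav.symm
    rwa [hv0] at this
  have hu2 : f 2 ≠ u • f 0 := fun e => h02 (MulAction.injective u (hv2.trans e)).symm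
  have hq0 : q • f 0 = f 0 := pCoreOf_le' 2 _ hq
  have hq1 : q • f 1 = f 1 := h.rv_le_stab hav hq
  have hqm := h.moves_of_not_rv hav.symm hua (Ne.symm humove) hq1 hq0 hqv
  have hqadj : (cosetGraph A B).Adj (f 1) (q • u • f 0) := by
    have := cg_adj_smul q hua
    rwa [hq1] at this
  have hq2 : q • u • f 0 = f 2 := by
    rcases h.nbr3 hav.symm hua hf2 hqadj (Ne.symm humove) h02 (Ne.symm hu2) with e | e | e
    · exact absurd (MulAction.injective q (e.trans hq0.symm)) humove
    · exact absurd e hqm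
    · exact e
  have hYall : ∀ x, (cosetGraph A B).Adj (f 1) x → Y ≤ H x := by
    intro x hx
    rcases h.nbr3 hav.symm hua hf2 hx (Ne.symm humove) h02 (Ne.symm hu2) with e | e | e
    · exact e ▸ hH0
    · exact e ▸ hstep u _ huY hH0
    · exact e ▸ hq2 ▸ hstep q _ hqY (hstep u _ huY hH0)
  -- so `H (f 0)` would be normalised by both stabilisers
  set C₁ : Subgroup G := ⨅ x : {x // (cosetGraph A B).Adj (f 1) x}, H x.1 with hC1
  have hYC : Y ≤ C₁ := le_iInf fun x => hYall x.1 x.2
  have hC1n : MulAction.stabilizer G (f 1) ≤ normalizer (C₁ : Set G) := by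
    intro g hg
    refine LocalEvenB.mem_normalizer_of_conjMap_le (le_iInf fun x => ?_)
    have hx' : (cosetGraph A B).Adj (f 1) (g⁻¹ • x.1) := by
      have := cg_adj_smul g⁻¹ x.2
      rwa [inv_smul_eq_iff.2 (MulAction.mem_stabilizer_iff.1 hg).symm] at this
    refine le_trans (map_mono (iInf_le _ (⟨_, hx'⟩ : {x // (cosetGraph A B).Adj (f 1) x}))) ?_
    refine (hHsmul g _).trans ?_
    rw [smul_inv_smul]
  obtain ⟨r, hr, hr0⟩ := h.exists_rv_not_rv hav.symm
  have hr1 : r • f 1 = f 1 := pCoreOf_le' 2 _ hr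
  have hr00 : r • f 0 = f 0 := h.rv_le_stab hav.symm hr
  have hrm := h.moves_of_not_rv hav hδ (Ne.symm hδv) hr00 hr1 hr0
  have hrC : vW T W (r • δ) ≤ C₁ := by
    rw [← h.vW_smul, ← LocalEvenB.conjMap_eq_of_mem_normalizer (hC1n hr1)]
    exact map_mono (le_sup_right.trans hYC)
  have hrδ : (cosetGraph A B).Adj (f 0) (r • δ) := by
    have := cg_adj_smul r hδ
    rwa [hr00] at this
  have hr2 : r • δ ≠ f 1 := fun e => hδv (MulAction.injective r (e.trans hr1.symm))
  have hHC : H (f 0) ≤ C₁ := by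
    refine iSup_le fun e => ?_
    rcases h.nbr3 hav hδ hrδ e.2 (Ne.symm hδv) (Ne.symm hr2) (Ne.symm hrm) with e' | e' | e'
    · exact e' ▸ le_sup_left.trans hYC
    · exact e' ▸ le_sup_right.trans hYC
    · exact e' ▸ hrC
  have heq : H (f 0) = C₁ :=
    le_antisymm hHC (iInf_le _ (⟨f 0, hav.symm⟩ : {x // (cosetGraph A B).Adj (f 1) x}))
  have hn0 : MulAction.stabilizer G (f 0) ≤ normalizer (H (f 0) : Set G) := by
    intro g hg
    refine LocalEvenB.mem_normalizer_of_conjMap_le ?_
    have := hHsmul g (f 0)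
    rwa [MulAction.mem_stabilizer_iff.1 hg] at this
  have hHle : H (f 0) ≤ rv (f 0) := iSup_le fun e => iSup_le fun x =>
    c.below 2 (by omega) _ _ (left_of_right x.2 (right_of_left e.2 c.start))
      (Near.cons x.2.symm (Near.one e.2.symm))
  have h0 := h.noNormal_edge hav (hHle.trans (h.loc hav).R_le_T) hn0 (heq ▸ hC1n)
  have hW : wW T W (f 0) ≤ H (f 0) :=
    (le_vW hav.symm).trans (le_iSup (fun e : {e // (cosetGraph A B).Adj (f 0) e} => vW T W e.1)
      ⟨f 1, hav⟩)
  rw [h0, le_bot_iff] at hW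
  have := (h.side hav c.start).card_W
  rw [hW, card_bot] at this
  omega

/-- From length five on every walk from an active vertex is critical. -/
theorem all_crit (h : Mix T A B W) {f : ℕ → CosetVertex A B} (c : OddCrit A B T W b f)
    (hb5 : 5 ≤ b) {k : ℕ → CosetVertex A B} (hk : NB b k) (hk0 : (k 0).isLeft = true) :
    OddCrit A B T W b k := by
  have h2 := c.odd
  refine ⟨c.below, c.odd, c.three, hk, hk0, ?_⟩
  -- walks agreeing with a shift
  have claim : ∀ j, 2 * j + 1 ≤ b → ∀ f k : ℕ → CosetVertex A B, OddCrit A B T W b f → NB b k →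
      (∀ i, i + 2 * j ≤ b → k (i + 2 * j) = f i) → Crit T W b k := by
    intro j
    induction j with
    | zero =>
      intro _ f k c _ he
      have e0 := he 0 (by omega)
      have eb := he b (by omega)
      simp only [Nat.mul_zero, Nat.add_zero] at e0 eb
      exact (crit_congr e0.symm eb.symm).1 c.crit
    | succ j ih =>
      intro hj f k c hk he
      -- the intermediate walk
      let k' : ℕ → CosetVertex A B := fun i => if 2 * j ≤ i then f (i - 2 * j) else k (i + 2)
      have hk'hi : ∀ i, 2 * j ≤ i → k' i = f (i - 2 * j) := fun i hi => if_pos hi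
      have hk'lo : ∀ i, i + 2 ≤ b → k' i = k (i + 2) := by
        intro i hi
        by_cases h1 : 2 * j ≤ i
        · rw [hk'hi i h1, ← he (i - 2 * j) (by omega)]
          congr 1
          omega
        · exact if_neg h1
      have hnb' : NB b k' := by
        refine ⟨fun i hi => ?_, fun i hi => ?_⟩
        · by_cases h1 : i + 3 ≤ b
          · rw [hk'lo i (by omega), hk'lo (i + 1) (by omega)]
            exact hk.1 (i + 2) (by omega)
          · rw [hk'hi i (by omega), hk'hi (i + 1) (by omega),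
              show i + 1 - 2 * j = i - 2 * j + 1 by omega]
            exact c.nb.1 _ (by omega)
        · by_cases h1 : i + 4 ≤ b
          · rw [hk'lo i (by omega), hk'lo (i + 2) (by omega)]
            exact hk.2 (i + 2) (by omega)
          · rw [hk'hi i (by omega), hk'hi (i + 2) (by omega),
              show i + 2 - 2 * j = i - 2 * j + 2 by omega]
            exact c.nb.2 _ (by omega)
      have hc' : Crit T W b k' := ih (by omega) f k' c hnb'
        (fun i hi => by rw [hk'hi _ (by omega), show i + 2 * j - 2 * j = i by omega])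
      have e2 : k' 0 = k 2 := hk'lo 0 (by omega)
      have e3 : k' 1 = k 3 := hk'lo 1 (by omega)
      have hl2 : (k' 0).isLeft = true := by
        rw [e2]
        have h4 := hk.type (i := 2) (by omega)
        have h5 := hk.type (i := 2 + 2 * j) (by omega)
        rw [if_pos rfl] at h4
        rw [if_pos (show (2 + 2 * j) % 2 = 0 by omega)] at h5
        rw [h4, ← h5, ← c.start]
        congr 1
        have := he 0 (by omega)
        rw [← this]
        congr 1
        omega
      have cc : OddCrit A B T W b k' := ⟨c.below, c.odd, c.three, hnb', hl2, hc'⟩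
      have := h.shift_crit cc hb5 (δ := k 1) (ε := k 0) (by rw [e2]; exact (hk.1 1 (by omega)).symm)
        (by rw [e3]; exact hk.2 1 (by omega)) (hk.1 0 (by omega)).symm
        (by rw [e2]; exact hk.2 0 (by omega))
      refine (crit_congr (f := cons (k 0) (cons (k 1) k')) (f' := k) rfl ?_).1 this
      rw [cons_cons _ _ _ (by omega), hk'lo (b - 2) (by omega), show b - 2 + 2 = b by omega]
  obtain ⟨g, hg0, hg1⟩ := edge_trans (c.nb.1 0 (by omega))
    (hk.1 (b - 1) (by omega) |> fun e => (by rwa [show b - 1 + 1 = b by omega] at e :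
      (cosetGraph A B).Adj (k (b - 1)) (k b)))
    (by rw [hk.left hk0 (Nat.sub_le b 1) (by omega), c.start])
  have c' : OddCrit A B T W b (fun i => g • f i) := ⟨c.below, c.odd, c.three, c.nb.smul g, by
    show (g • f 0).isLeft = true
    rw [hg0]; exact hk.left hk0 (Nat.sub_le b 1) (by omega), (h.crit_smul g).2 c.crit⟩
  refine claim ((b - 1) / 2) (by omega) _ k c' hk fun i hi => ?_
  have h4 : 2 * ((b - 1) / 2) = b - 1 := by omega
  rw [h4] at hi ⊢
  rcases Nat.eq_zero_or_pos i with rfl | hi0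
  · simpa using hg0.symm
  · rw [show i = 1 by omega, show 1 + (b - 1) = b by omega]
    exact hg1.symm

end Mix

end Cfsg.Agent.LocalEvenA.Gold
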