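import Cfsg.Agent.Lib.LocalEvenA.Gold.Pairs

/-!
There is no critical walk of odd length five or more.
-/

set_option autoImplicit false

namespace Cfsg.Agent.LocalEvenA.Gold

open Subgroup Cfsg Agent.LocalEvenA Cfsg.Agent.LocalEvenB.ZN

variable {G : Type*} [Group G] {T A B W : Subgroup G} [Finite G] {b : ℕ}
  {f : ℕ → CosetVertex A B}

namespace Mix

theorem inv_of_w (h : Mix T A B W) {γ : CosetVertex A B} (hγ : γ.isLeft = true) {x : G}
    (hx : x ∈ wW T W γ) : x⁻¹ = x := by
  obtain ⟨v, hv⟩ := exists_nbr γ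
  exact inv_eq_of_mul_eq_one_right ((h.side hv hγ).sq x hx)

theorem pc_ne_one (h : Mix T A B W) {v c : CosetVertex A B} (hv : v.isLeft = false) {p : G}
    (hp : PC T W v c p) : p ≠ 1 := by
  obtain ⟨γ, γ', h1, h2, -, -, h5, x, y, hx, hy, rfl⟩ := hp
  intro he
  have hl := left_of_right h1 hv
  have hl' := left_of_right h2 hv
  have hxy : x = y := by
    rw [eq_inv_of_mul_eq_one_left he, h.inv_of_w hl' hy.1]
  subst hxy
  refine h.wW_ne hv h1 h2 h5 ?_
  have key : ∀ γ γ', (cosetGraph A B).Adj v γ → (cosetGraph A B).Adj v γ' →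
      γ.isLeft = true → γ'.isLeft = true → Out T W v γ x → x ∈ wW T W γ' →
      wW T W γ ≤ wW T W γ' := by
    intro γ γ' h1 h2 hl hl' hx hy q hq
    obtain ⟨v', hv', hne, -⟩ := h.exists_nbr_ne h1.symm v
    have hz := h.zel_mem h2.symm hl'
    have hz' : zel A B T W v' ∈ wW T W γ' := by
      rcases h.w_cases h1.symm hv' hl (Ne.symm hne) hx.1 with e | e | e | e
      · exact absurd e hx.2.1
      · exact absurd e hx.2.2
      · exact e ▸ hy
      · have := mul_mem (inv_mem hz) (e ▸ hy)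
        rwa [inv_mul_cancel_left] at this
    rcases h.w_cases h1.symm hv' hl (Ne.symm hne) hq with e | e | e | e <;> rw [e]
    exacts [one_mem _, hz, hz', mul_mem hz hz']
  exact le_antisymm (key γ γ' h1 h2 hl hl' hx hy.1) (key γ' γ h2 h1 hl' hl hy hx.1)

theorem exists_back (h : Mix T A B W) {n : ℕ} {g : ℕ → CosetVertex A B} (hg : NB n g)
    (hn : 1 ≤ n) : ∃ x, (cosetGraph A B).Adj (g 0) x ∧ x ≠ g 1 ∧ NB (n + 1) (cons x g) := by
  obtain ⟨x, hx, hne, -⟩ := h.exists_nbr_ne (hg.1 0 (by omega)) (g 1)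
  exact ⟨x, hx, hne, hg.cons hx.symm (Or.inr hne)⟩

/-- The commutator of the outer elements of a critical walk and of its mirror. -/
theorem pc_comm (h : Mix T A B W) (c : OddCrit A B T W b f) {γ : CosetVertex A B}
    (hγ : (cosetGraph A B).Adj (f b) γ) (hne : γ ≠ f (b - 1)) {s u : G}
    (hs : s ∈ wW T W (f 0)) (hsn : s ∉ rv (f b)) (hu : u ∈ wW T W γ) (hun : u ∉ rv (f 1)) :
    PC T W (f 1) (f 2) (s * u * s⁻¹ * u⁻¹) ∧
      PC T W (f b) (f (b - 1)) (s * u * s⁻¹ * u⁻¹) := by
  have h3 := c.three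
  have cR := c.rev h hγ hne
  have hγl := left_of_right hγ c.last_right
  have hsfix : ∀ i, i ≤ b → s • f i = f i := fun i hi =>
    h.w_fix c.below (by omega) c.nb c.start hs hi
  have hufix : ∀ i, 1 ≤ i → i ≤ b → u • f i = f i := by
    intro i h1 h2
    have := h.w_fix c.below (by omega) cR.nb cR.start (by rw [mir_zero]; exact hu)
      (i := b + 1 - i) (by omega)
    rwa [mir_succ b f γ (by omega), show b + 1 - (b + 1 - i) = i by omega] at this
  have hav := c.nb.1 0 (by omega)
  have hv2 : (cosetGraph A B).Adj (f 1) (f 2) := c.nb.1 1 (by omega)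
  have h02 : f 0 ≠ f 2 := c.nb.2 0 (by omega)
  have hβ := adj_pred c.nb (show 1 ≤ b by omega) le_rfl
  have hsout : Out T W (f 1) (f 0) s :=
    ⟨hs, fun e => hsn ((c.mem_iff h hs).2 (Or.inl e)),
      fun e => hsn ((c.mem_iff h hs).2 (Or.inr e))⟩
  have huout : Out T W (f b) γ u := by
    have hb' : mir b f γ b = f 1 := by
      rw [mir_succ b f γ (by omega), show b + 1 - b = 1 by omega]
    have h1 : mir b f γ 1 = f b := by
      rw [mir_succ b f γ le_rfl, show b + 1 - 1 = b by omega]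
    have hi := cR.mem_iff h (w := u) (by rw [mir_zero]; exact hu)
    rw [hb', h1] at hi
    exact ⟨hu, fun e => hun (hi.2 (Or.inl e)), fun e => hun (hi.2 (Or.inr e))⟩
  refine ⟨⟨f 0, u • f 0, hav.symm, ?_, h02, fun e => h02 ?_, fun e => ?_, s, u * s * u⁻¹, hsout,
    ?_, ?_⟩, ⟨s • γ, γ, ?_, hγ, fun e => hne ?_, hne, ?_, s * u * s⁻¹, u, ?_, huout, ?_⟩⟩
  · have := cg_adj_smul u hav.symm
    rwa [hufix 1 le_rfl (by omega)] at this
  · exact MulAction.injective u (e.trans (hufix 2 (by omega) (by omega)).symm)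
  · exact h.moves_of_not_rv hv2 hav.symm h02.symm (hufix 1 le_rfl (by omega))
      (hufix 2 (by omega) (by omega)) hun e.symm
  · have := h.out_smul u hsout
    rwa [hufix 1 le_rfl (by omega)] at this
  · rw [h.inv_of_w c.start hs]; group
  · have := cg_adj_smul s hγ
    rwa [hsfix b le_rfl] at this
  · exact MulAction.injective s (e.trans (hsfix _ (Nat.sub_le b 1)).symm)
  · exact h.moves_of_not_rv hβ hγ (Ne.symm hne) (hsfix b le_rfl) (hsfix _ (Nat.sub_le b 1)) hsn
  · have := h.out_smul s huout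
    rwa [hsfix b le_rfl] at this
  · rw [h.inv_of_w hγl hu]

theorem seg (h : Mix T A B W) (c : OddCrit A B T W b f) (hb5 : 5 ≤ b)
    {g : ℕ → CosetVertex A B} (hg : NB (b - 1) g) (hg0 : (g 0).isLeft = false) :
    ∃ p, PC T W (g 0) (g 1) p ∧ PC T W (g (b - 1)) (g (b - 2)) p := by
  obtain ⟨x, hx, -, hnb⟩ := h.exists_back hg (by omega)
  rw [show b - 1 + 1 = b by omega] at hnb
  have ck := h.all_crit c hb5 hnb (left_of_right hx hg0)
  have hadj := adj_pred hnb (show 1 ≤ b by omega) le_rfl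
  obtain ⟨γ, hγ, hne, -⟩ := h.exists_nbr_ne hadj (cons x g (b - 1))
  obtain ⟨s, hs, hsn⟩ := ck.exists_s
  obtain ⟨u, hu, hun⟩ := (ck.rev h hγ hne).exists_s
  rw [mir_zero] at hu
  rw [mir_succ b _ γ (by omega), show b + 1 - b = 1 by omega] at hun
  obtain ⟨h1, h2⟩ := h.pc_comm ck hγ hne hs hsn hu hun
  refine ⟨_, h1, ?_⟩
  have e1 : cons x g b = g (b - 1) := by
    conv_lhs => rw [show b = b - 1 + 1 by omega]
    rfl
  have e2 : cons x g (b - 1) = g (b - 2) := by
    rw [show b - 1 = b - 2 + 1 by omega]; rfl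
  rwa [e1, e2] at h2

theorem z_mul_mem (h : Mix T A B W) (c : OddCrit A B T W b f) (hb5 : 5 ≤ b)
    (hns : ¬ Small A B T W) {g g' : ℕ → CosetVertex A B} (hg : NB (b - 1) g)
    (hg' : NB (b - 1) g') (hg0 : (g 0).isLeft = false) (hg0' : (g' 0).isLeft = false)
    (e1 : g' (b - 1) = g (b - 1)) (e2 : g' (b - 2) = g (b - 2)) (e3 : g' (b - 3) = g (b - 3)) :
    zel A B T W (g 0) * zel A B T W (g' 0) ∈ wW T W (g (b - 2)) := by
  have hb := c.below
  have hodd := c.odd
  have hβ1r : (g (b - 1)).isLeft = false := by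
    rw [hg.type le_rfl, if_pos (by omega), hg0]
  have hadj : (cosetGraph A B).Adj (g (b - 2)) (g (b - 1)) := by
    have := hg.1 (b - 2) (by omega)
    rwa [show b - 2 + 1 = b - 1 by omega] at this
  have hcl := left_of_right hadj.symm hβ1r
  obtain ⟨β, hβ, hβne, hβ3⟩ := h.exists_nbr_ne hadj (g (b - 3))
  have hβr := right_of_left hβ hcl
  have alt : ∀ k : ℕ → CosetVertex A B, NB (b - 1) k → k (b - 2) = g (b - 2) →
      k (b - 3) = g (b - 3) → NB (b - 1) (snoc (b - 2) k β) := by
    intro k hk h2 h3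
    have := (hk.mono (show b - 2 ≤ b - 1 by omega)).snoc (x := β) (by rw [h2]; exact hβ)
      (Or.inr (by rw [show b - 2 - 1 = b - 3 by omega, h3]; exact Ne.symm hβ3))
    rwa [show b - 2 + 1 = b - 1 by omega] at this
  have data : ∀ k : ℕ → CosetVertex A B, NB (b - 1) k → (k 0).isLeft = false →
      k (b - 1) = g (b - 1) → k (b - 2) = g (b - 2) → k (b - 3) = g (b - 3) →
      ∃ p q, PC T W (g (b - 1)) (g (b - 2)) p ∧ PC T W β (g (b - 2)) q ∧
        q = p * zel A B T W (k 0) ∧ p * q = q * p := by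
    intro k hk hk0 h1 h2 h3
    obtain ⟨p, hp, hp'⟩ := h.seg c hb5 hk hk0
    obtain ⟨q, hq, hq'⟩ := h.seg c hb5 (alt k hk h2 h3)
      (by rw [snoc_le (Nat.zero_le _)]; exact hk0)
    rw [snoc_le (Nat.zero_le _), snoc_le (by omega)] at hq
    rw [snoc_gt (by omega), snoc_le le_rfl, h2] at hq'
    rw [h1, h2] at hp'
    refine ⟨p, q, hp', hq', ?_, h.vW_commute hb c.three hk0 (pc_mem hp) (pc_mem hq)⟩
    rcases h.pc_unique hb c.three hk0 (hk.1 0 (by omega)) hp hq with e | e
    · subst e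
      exact absurd (h.small_of_one hb c.three hβ1r hadj.symm hp'
        (h.dl hb c.three hcl hadj hβ (Ne.symm hβne) hp' hq')) hns
    · exact e
  obtain ⟨p, q, hp, hq, he, hpq⟩ := data g hg hg0 rfl rfl rfl
  obtain ⟨p', q', hp', hq', he', -⟩ := data g' hg' hg0' e1 e2 e3
  obtain ⟨a, ha, hpa⟩ : ∃ a ∈ wW T W (g (b - 2)), p' = p * a := by
    rcases h.pc_unique hb c.three hβ1r hadj.symm hp hp' with e | e
    · exact ⟨1, one_mem _, by rw [e, mul_one]⟩
    · exact ⟨_, h.zel_mem hadj hcl, e⟩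
  obtain ⟨a', ha', hqa⟩ : ∃ a ∈ wW T W (g (b - 2)), q' = q * a := by
    rcases h.pc_unique hb c.three hβr hβ.symm hq hq' with e | e
    · exact ⟨1, one_mem _, by rw [e, mul_one]⟩
    · exact ⟨_, h.zel_mem hβ hcl, e⟩
  have hpp : p * p = 1 := h.vW_sq hb c.three hβ1r (pc_mem hp)
  have hqq : q * q = 1 := h.vW_sq hb c.three hβr (pc_mem hq)
  have haq : a * q = q * a := h.vW_commute hb c.three hβr (le_vW hβ.symm ha) (pc_mem hq)
  have hpp' : p' * p' = 1 := h.vW_sq hb c.three hβ1r (pc_mem hp')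
  have z1 : zel A B T W (g 0) = p * q := by rw [he, ← mul_assoc, hpp, one_mul]
  have z2 : zel A B T W (g' 0) = p' * q' := by rw [he', ← mul_assoc, hpp', one_mul]
  have hzz : zel A B T W (g 0) * zel A B T W (g' 0) = a * a' := by
    rw [z1, z2, hpa, hqa]
    calc p * q * (p * a * (q * a')) = p * q * p * (a * q) * a' := by group
      _ = p * (q * p) * q * a * a' := by rw [haq]; group
      _ = p * (p * q) * q * a * a' := by rw [hpq]
      _ = p * p * (q * q) * a * a' := by group
      _ = a * a' := by rw [hpp, hqq, one_mul, one_mul]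
  rw [hzz]
  exact mul_mem ha ha'

theorem test_back (h : Mix T A B W) (c : OddCrit A B T W b f) (hb5 : 5 ≤ b) {x : G}
    (hx : x ∈ wW T W (f (b - 1))) (hx2 : x ∈ wW T W (f 2)) :
    x = 1 ∨ x = zel A B T W (f (b - 2)) := by
  have hav := c.nb.1 0 (by omega)
  obtain ⟨δ, hδ, hδv, -⟩ := h.exists_nbr_ne hav (f 1)
  have hk := ((c.nb.mono (Nat.sub_le b 1)).rev).snoc (x := δ)
    (by show (cosetGraph A B).Adj (f (b - 1 - (b - 1))) δ; rw [Nat.sub_self]; exact hδ)
    (Or.inr (by
      show f (b - 1 - (b - 1 - 1)) ≠ δ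
      rw [show b - 1 - (b - 1 - 1) = 1 by omega]; exact Ne.symm hδv))
  rw [show b - 1 + 1 = b by omega] at hk
  have e0 : snoc (b - 1) (fun i => f (b - 1 - i)) δ 0 = f (b - 1) := by
    rw [snoc_le (Nat.zero_le _)]; simp
  have e1 : snoc (b - 1) (fun i => f (b - 1 - i)) δ 1 = f (b - 2) := by
    rw [snoc_le (by omega)]; show f (b - 1 - 1) = _; congr 1
  have eb : snoc (b - 1) (fun i => f (b - 1 - i)) δ b = δ := snoc_gt (by omega)
  have ck := h.all_crit c hb5 hk (by rw [e0]; exact c.pred_left)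
  have hi := ck.mem_iff h (w := x) (by rw [e0]; exact hx)
  rw [eb, e1] at hi
  refine hi.1 ?_
  exact c.below 3 (by omega) _ _ (c.nb.left c.start (i := 2) (by omega) rfl)
    (Near.cons (c.nb.1 1 (by omega)).symm (Near.cons hav.symm (Near.one hδ))) hx2

theorem small_five (h : Mix T A B W) (c : OddCrit A B T W 5 f) : Small A B T W := by
  by_contra hns
  have hnb := c.nb
  have h34 : (cosetGraph A B).Adj (f 3) (f 4) := hnb.1 3 (by omega)
  have hr3 : (f 3).isLeft = false := hnb.right c.start (by omega) rfl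
  obtain ⟨x, hx, hx2, hx4⟩ := h.exists_nbr_ne (hnb.1 2 (by omega)).symm (f 4)
  have hxl := left_of_right hx hr3
  obtain ⟨y, hy, hy3, -⟩ := h.exists_nbr_ne hx.symm (f 3)
  have hk2 : NB 2 (fun i => f (i + 3)) := hnb.shift (by omega)
  have hk3 : NB 3 (cons x (fun i => f (i + 3))) := hk2.cons hx.symm (Or.inr hx4)
  have hk4 : NB 4 (cons y (cons x (fun i => f (i + 3)))) :=
    hk3.cons hy.symm (Or.inr hy3)
  have h2l : (f 2).isLeft = true := hnb.left c.start (by omega) rfl
  have hyr : y.isLeft = false := right_of_left hy hxl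
  have hg : NB 4 (fun i => f (i + 1)) := hnb.shift (by omega)
  have hm := h.z_mul_mem c le_rfl hns (g := fun i => f (i + 1)) hg hk4
    (hnb.right c.start (i := 1) (by omega) rfl) hyr rfl rfl rfl
  change zel A B T W (f 1) * zel A B T W y ∈ wW T W (f 4) at hm
  have h12 : (cosetGraph A B).Adj (f 2) (f 1) := (hnb.1 1 (by omega)).symm
  have h23 : (cosetGraph A B).Adj (f 2) (f 3) := hnb.1 2 (by omega)
  refine hns (h.small_of_one c.below c.three hr3 h34
    ⟨f 2, x, h23.symm, hx, hnb.2 2 (by omega), hx4, Ne.symm hx2, _, _,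
      ⟨h.zel_mem h12 h2l, (h.zel_mem_pt h12 h2l).2,
        fun e => hnb.2 1 (by omega) (h.zel_inj h12 h23 h2l e)⟩,
      ⟨h.zel_mem hy hxl, (h.zel_mem_pt hy hxl).2,
        fun e => hy3 (h.zel_inj hy hx.symm hxl e)⟩, rfl⟩ hm)

theorem z_eq_long (h : Mix T A B W) (c : OddCrit A B T W b f) (hb7 : 7 ≤ b) :
    zel A B T W (f 3) = zel A B T W (f (b - 2)) := by
  have hnb := c.nb
  have h2l : (f 2).isLeft = true := hnb.left c.start (i := 2) (by omega) rfl
  have h23 : (cosetGraph A B).Adj (f 2) (f 3) := hnb.1 2 (by omega)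
  have h21 : (cosetGraph A B).Adj (f 2) (f 1) := (hnb.1 1 (by omega)).symm
  by_cases hS : Small A B T W
  · have hadj := adj_pred hnb (show 1 ≤ b by omega) le_rfl
    obtain ⟨γ, hγ, hne, -⟩ := h.exists_nbr_ne hadj (f (b - 1))
    have cR := c.rev h hγ hne
    obtain ⟨s, hs, hsn⟩ := c.exists_s
    obtain ⟨u, hu, hun⟩ := cR.exists_s
    rw [mir_zero] at hu
    rw [mir_succ b _ γ (by omega), show b + 1 - b = 1 by omega] at hun
    obtain ⟨h1, h2⟩ := h.pc_comm c hγ hne hs hsn hu hun
    have hr1 : (f 1).isLeft = false := hnb.right c.start (i := 1) (by omega) rfl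
    have m2 := hS _ _ _ hr1 h21.symm h1
    have mb := hS _ _ _ c.last_right hadj h2
    have hp1 := h.pc_ne_one hr1 h1
    have k1 := (h.test_back c (by omega) mb m2).resolve_left hp1
    have e1 : mir b f γ (b - 1) = f 2 := by
      rw [mir_succ b f γ (by omega), show b + 1 - (b - 1) = 2 by omega]
    have e2 : mir b f γ 2 = f (b - 1) := by
      rw [mir_succ b f γ (by omega)]; congr 1
    have e3 : mir b f γ (b - 2) = f 3 := by
      rw [mir_succ b f γ (by omega), show b + 1 - (b - 2) = 3 by omega]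
    have k2 := h.test_back cR (by omega) (by rw [e1]; exact m2) (by rw [e2]; exact mb)
    rw [e3] at k2
    exact (k2.resolve_left hp1).symm.trans k1
  · obtain ⟨y, hy, hy1, hy3⟩ := h.exists_nbr_ne h21 (f 3)
    have hg : NB (b - 1) (fun i => f (i + 1)) := hnb.shift (by omega)
    have hg' : NB (b - 1) (cons y (fun i => f (i + 2))) := by
      have := (hnb.shift (k := 2) (m := b - 2) (by omega)).cons (x := y) hy.symm (Or.inr hy3)
      rwa [show b - 2 + 1 = b - 1 by omega] at this
    have hc : ∀ n, 1 ≤ n → cons y (fun i => f (i + 2)) n = f (n + 1) := by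
      intro n hn
      obtain ⟨m, rfl⟩ : ∃ m, n = m + 1 := ⟨n - 1, by omega⟩
      rfl
    have hm := h.z_mul_mem c (by omega) hS hg hg'
      (hnb.right c.start (i := 1) (by omega) rfl) (right_of_left hy h2l)
      (hc _ (by omega)) (hc _ (by omega)) (hc _ (by omega))
    change zel A B T W (f 1) * zel A B T W y ∈ wW T W (f (b - 2 + 1)) at hm
    rw [show b - 2 + 1 = b - 1 by omega,
      ← h.third h21 hy h23 h2l (Ne.symm hy1) (Ne.symm (hnb.2 1 (by omega))) (Ne.symm hy3)] at hm
    exact (h.test_back c (by omega) hm (h.zel_mem h23 h2l)).resolve_left (h.zel_mem_pt h23 h2l).2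

theorem no_odd_seven (h : Mix T A B W) (c : OddCrit A B T W b f) (hb7 : 7 ≤ b) : False := by
  have hnb := c.nb
  have hodd := c.odd
  obtain ⟨x1, hx1, -, k1⟩ := h.exists_back (hnb.mono (Nat.sub_le b 4)) (by omega)
  obtain ⟨x2, hx2, -, k2⟩ := h.exists_back k1 (by omega)
  obtain ⟨x3, hx3, -, k3⟩ := h.exists_back k2 (by omega)
  obtain ⟨x4, hx4, -, k4⟩ := h.exists_back k3 (by omega)
  change (cosetGraph A B).Adj x1 x2 at hx2
  change (cosetGraph A B).Adj x2 x3 at hx3
  change (cosetGraph A B).Adj x3 x4 at hx4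
  rw [show b - 4 + 1 + 1 + 1 + 1 = b by omega] at k4
  set k := cons x4 (cons x3 (cons x2 (cons x1 f))) with hk
  have hki : ∀ i, k (i + 4) = f i := fun i => rfl
  have hl4 : x4.isLeft = true := left_of_right hx4
    (right_of_left hx3 (left_of_right hx2 (right_of_left hx1 c.start)))
  have ck := h.all_crit c (by omega) k4 hl4
  obtain ⟨g, hg, hgn⟩ := ck.exists_s
  have hfix : ∀ i, i + 4 ≤ b → g • f i = f i := fun i hi => by
    have := h.w_fix c.below (by omega) k4 hl4 hg hi
    rwa [hki] at this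
  rw [show k b = f (b - 4) by rw [← hki (b - 4)]; congr 1; omega] at hgn
  have h5 : (cosetGraph A B).Adj (f (b - 4)) (f (b - 5)) := by
    have := adj_pred hnb (i := b - 4) (by omega) (by omega)
    rwa [show b - 4 - 1 = b - 5 by omega] at this
  have h43 : (cosetGraph A B).Adj (f (b - 4)) (f (b - 3)) := by
    have := hnb.1 (b - 4) (by omega)
    rwa [show b - 4 + 1 = b - 3 by omega] at this
  have h32 : (cosetGraph A B).Adj (f (b - 3)) (f (b - 2)) := by
    have := hnb.1 (b - 3) (by omega)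
    rwa [show b - 3 + 1 = b - 2 by omega] at this
  have hne53 : f (b - 5) ≠ f (b - 3) := by
    have := hnb.2 (b - 5) (by omega)
    rwa [show b - 5 + 2 = b - 3 by omega] at this
  have hne42 : f (b - 4) ≠ f (b - 2) := by
    have := hnb.2 (b - 4) (by omega)
    rwa [show b - 4 + 2 = b - 2 by omega] at this
  have hr4 : (f (b - 4)).isLeft = false := hnb.right c.start (by omega) (by omega)
  have hl3 := left_of_right h43 hr4
  have g4 : g • f (b - 4) = f (b - 4) := hfix _ (by omega)
  have hmove := h.moves_of_not_rv h5 h43 hne53 g4 (hfix _ (by omega)) hgn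
  have h43' : (cosetGraph A B).Adj (f (b - 4)) (g • f (b - 3)) := by
    have := cg_adj_smul g h43
    rwa [g4] at this
  have hz : zel A B T W (g • f (b - 2)) = zel A B T W (f (b - 2)) := by
    rw [h.zel_smul, ← h.z_eq_long c hb7, ← h.zel_smul, hfix 3 (by omega)]
  have hl3' := left_of_right h43' hr4
  have hne42' : f (b - 4) ≠ g • f (b - 2) := fun e =>
    hne42 (MulAction.injective g (g4.trans e))
  refine h.wW_ne hr4 h43 h43' (Ne.symm hmove) (le_antisymm ?_ ?_)
  · intro q hq
    have a1 := h.zel_mem h43'.symm hl3'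
    have a2 := h.zel_mem (cg_adj_smul g h32) hl3'
    rw [hz] at a2
    rcases h.w_cases h43.symm h32 hl3 hne42 hq with e | e | e | e <;> rw [e]
    exacts [one_mem _, a1, a2, mul_mem a1 a2]
  · intro q hq
    have a1 := h.zel_mem h43.symm hl3
    have a2 := h.zel_mem h32 hl3
    rw [← hz] at a2
    rcases h.w_cases h43'.symm (cg_adj_smul g h32) hl3' hne42' hq with e | e | e | e <;> rw [e]
    exacts [one_mem _, a1, a2, mul_mem a1 a2]

/-- For length five the commutator is the middle point. -/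
theorem comm_five (h : Mix T A B W) (c : OddCrit A B T W 5 f) {γ : CosetVertex A B}
    (hγ : (cosetGraph A B).Adj (f 5) γ) (hne : γ ≠ f 4) {s u : G}
    (hs : s ∈ wW T W (f 0)) (hsn : s ∉ rv (f 5)) (hu : u ∈ wW T W γ) (hun : u ∉ rv (f 1)) :
    s * u * s⁻¹ * u⁻¹ = zel A B T W (f 3) := by
  obtain ⟨h1, h2⟩ := h.pc_comm c hγ hne hs hsn hu hun
  have hS := h.small_five c
  have hnb := c.nb
  have hr1 : (f 1).isLeft = false := hnb.right c.start (i := 1) (by omega) rfl
  have hr3 : (f 3).isLeft = false := hnb.right c.start (i := 3) (by omega) rfl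
  have h32 : (cosetGraph A B).Adj (f 3) (f 2) := (hnb.1 2 (by omega)).symm
  have h34 : (cosetGraph A B).Adj (f 3) (f 4) := hnb.1 3 (by omega)
  have m2 := hS _ _ _ hr1 (hnb.1 1 (by omega)) h1
  have m4 := hS _ _ _ c.last_right (hnb.1 4 (by omega)).symm h2
  have hp1 := h.pc_ne_one hr1 h1
  set p := s * u * s⁻¹ * u⁻¹
  by_contra hne'
  have key : ∀ x y, (cosetGraph A B).Adj (f 3) x → (cosetGraph A B).Adj (f 3) y →
      p ∈ wW T W x → p ∈ wW T W y → wW T W x ≤ wW T W y := by
    intro x y hx hy px py q hq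
    have hxl := left_of_right hx hr3
    obtain ⟨x', hx', hxne, -⟩ := h.exists_nbr_ne hx.symm (f 3)
    have hz := h.zel_mem hy.symm (left_of_right hy hr3)
    have hz' : zel A B T W x' ∈ wW T W y := by
      rcases h.w_cases hx.symm hx' hxl (Ne.symm hxne) px with e | e | e | e
      · exact absurd e hp1
      · exact absurd e hne'
      · exact e ▸ py
      · have := mul_mem (inv_mem hz) (e ▸ py)
        rwa [inv_mul_cancel_left] at this
    rcases h.w_cases hx.symm hx' hxl (Ne.symm hxne) hq with e | e | e | e <;> rw [e]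
    exacts [one_mem _, hz, hz', mul_mem hz hz']
  exact h.wW_ne hr3 h32 h34 (hnb.2 2 (by omega))
    (le_antisymm (key _ _ h32 h34 m2 m4) (key _ _ h34 h32 m4 m2))

theorem no_odd_five (h : Mix T A B W) (c : OddCrit A B T W 5 f) : False := by
  have hnb := c.nb
  have hb := c.below
  have hav := hnb.1 0 (by omega)
  obtain ⟨δ, hδ, hδv, -⟩ := h.exists_nbr_ne hav (f 1)
  have hδr := right_of_left hδ c.start
  obtain ⟨ε, hε, hε0, -⟩ := h.exists_nbr_ne hδ.symm (f 0)
  have hεl := left_of_right hε hδr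
  set s := zel A B T W δ with hsdef
  set z := zel A B T W (f 3) with hzdef
  have hs : s ∈ wW T W (f 0) := h.zel_mem hδ c.start
  have hsn : s ∉ rv (f 5) := fun hh => by
    rcases (c.mem_iff h hs).1 hh with e | e
    · exact (h.zel_mem_pt hδ c.start).2 e
    · exact hδv (h.zel_inj hδ hav c.start e)
  have hadj := adj_pred hnb (show 1 ≤ 5 by omega) le_rfl
  obtain ⟨γ, hγ, hne, -⟩ := h.exists_nbr_ne hadj (f 4)
  have cR := c.rev h hγ hne
  obtain ⟨u, hu, hun⟩ := cR.exists_s
  rw [mir_zero] at hu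
  rw [mir_succ 5 _ γ (by omega)] at hun
  change u ∉ rv (f 1) at hun
  have hufix : ∀ i, 1 ≤ i → i ≤ 5 → u • f i = f i := by
    intro i h1 h2
    have := h.w_fix hb (by omega) cR.nb cR.start (by rw [mir_zero]; exact hu)
      (i := 6 - i) (by omega)
    rwa [mir_succ 5 f γ (by omega), show 5 + 1 - (6 - i) = i by omega] at this
  have hk : NB 5 (cons ε (cons δ f)) :=
    ((hnb.mono (show 3 ≤ 5 by omega)).cons hδ.symm (Or.inr hδv)).cons hε.symm (Or.inr hε0)
  have ck := h.all_crit c le_rfl hk hεl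
  obtain ⟨w, hw, hwn⟩ := ck.exists_s
  change w ∈ wW T W ε at hw
  change w ∉ rv (f 3) at hwn
  have hwfix : ∀ i, i ≤ 3 → w • f i = f i := fun i hi =>
    h.w_fix hb (by omega) hk hεl hw (i := i + 2) (by omega)
  have hwδ : w • δ = δ := h.w_fix hb (by omega) hk hεl hw (i := 1) (by omega)
  have h34 := hnb.1 3 (by omega)
  have h32 := (hnb.1 2 (by omega)).symm
  have hwm : w • f 4 ≠ f 4 := h.moves_of_not_rv h32 h34 (hnb.2 2 (by omega))
    (hwfix 3 le_rfl) (hwfix 2 (by omega)) hwn
  have c' : OddCrit A B T W 5 (fun i => w • f i) := ⟨hb, c.odd, c.three, hnb.smul w,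
    by show (w • f 0).isLeft = true; rw [hwfix 0 (by omega)]; exact c.start,
    (h.crit_smul w).2 c.crit⟩
  set e' := w * u * w⁻¹ with he'
  have he'W : e' ∈ wW T W (w • γ) := by
    rw [h.wW_smul]; exact LocalEvenB.conjMap_apply_mem hu
  have he'n : e' ∉ rv (f 1) := by
    rw [← hwfix 1 (by omega), he', mem_rv_smul]; exact hun
  have hγ' : (cosetGraph A B).Adj (w • f 5) (w • γ) := cg_adj_smul w hγ
  have hne' : w • γ ≠ w • f 4 := fun e => hne (MulAction.injective w e)
  have c1 := h.comm_five c hγ hne hs hsn hu hun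
  -- conjugate by `w`
  have hws : w * s = s * w := h.zel_comm hwδ
  have c2 : s * e' * s⁻¹ * e'⁻¹ = z := by
    have hz : w * z * w⁻¹ = z := by
      rw [mul_inv_eq_iff_eq_mul]; exact h.zel_comm (hwfix 3 le_rfl)
    have hs' : w * s * w⁻¹ = s := by rw [hws, mul_inv_cancel_right]
    calc s * e' * s⁻¹ * e'⁻¹
        = w * s * w⁻¹ * e' * (w * s * w⁻¹)⁻¹ * e'⁻¹ := by rw [hs']
      _ = w * (s * u * s⁻¹ * u⁻¹) * w⁻¹ := by rw [he']; group
      _ = z := by rw [c1, hz]
  -- the two mirror elements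
  have hγl := left_of_right hγ c.last_right
  have h54 := (hnb.1 4 (by omega)).symm
  have hk2 : NB 5 (cons γ (cons (f 5) (cons (f 4) (fun i => w • f (i + 3))))) := by
    have a0 : NB 2 (fun i => w • f (i + 3)) := (hnb.shift (k := 3) (m := 2) (by omega)).smul w
    have a1 : NB 3 (cons (f 4) (fun i => w • f (i + 3))) :=
      a0.cons (by show (cosetGraph A B).Adj (f 4) (w • f 3); rw [hwfix 3 le_rfl]; exact h34.symm)
        (Or.inr (Ne.symm hwm))
    have a2 : NB 4 (cons (f 5) (cons (f 4) (fun i => w • f (i + 3)))) :=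
      a1.cons h54 (Or.inr (by
        show f 5 ≠ w • f 3; rw [hwfix 3 le_rfl]; exact (hnb.2 3 (by omega)).symm))
    exact a2.cons hγ.symm (Or.inr hne)
  have ck2 := h.all_crit c le_rfl hk2 hγl
  have cR' := c'.rev h (γ := w • γ) hγ' hne'
  have c3 : u * e' * u⁻¹ * e'⁻¹ = z := by
    have hu5 : u ∉ rv (w • f 5) := by
      intro hh
      have e5 := (ck2.mem_iff h (w := u) hu).1 hh
      change u = 1 ∨ u = zel A B T W (f 5) at e5
      refine hun ?_
      have hi := cR.mem_iff h (w := u) (by rw [mir_zero]; exact hu)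
      rw [mir_succ 5 f γ (by omega), mir_succ 5 f γ (by omega)] at hi
      exact hi.2 e5
    have he5 : e' ∉ rv (f 5) := by
      intro hh
      have cR2 := ck2.rev h (γ := w • γ) hγ' hne'
      have hi := cR2.mem_iff h (w := e') (by rw [mir_zero]; exact he'W)
      rw [mir_succ 5 _ _ (by omega), mir_succ 5 _ _ (by omega)] at hi
      have e5 := hi.1 hh
      change e' = 1 ∨ e' = zel A B T W (w • f 5) at e5
      have hj := cR'.mem_iff h (w := e') (by rw [mir_zero]; exact he'W)
      rw [mir_succ 5 _ _ (by omega), mir_succ 5 _ _ (by omega)] at hj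
      have h6 := hj.2 e5
      change e' ∈ rv (w • f 1) at h6
      rw [hwfix 1 (by omega)] at h6
      exact he'n h6
    have := h.comm_five ck2 (γ := w • γ) hγ' hne' hu hu5 he'W he5
    change u * e' * u⁻¹ * e'⁻¹ = zel A B T W (w • f 3) at this
    rwa [hwfix 3 le_rfl] at this
  -- the product
  have hzz : z * z = 1 := (h.side (hnb.1 2 (by omega)) (hnb.left c.start (by omega) rfl)).sq _
    (h.zel_mem (hnb.1 2 (by omega)) (hnb.left c.start (by omega) rfl))
  have he'fix : ∀ i, 1 ≤ i → i ≤ 3 → e' • f i = f i := by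
    intro i h1 h2
    rw [he', mul_smul, mul_smul, show w⁻¹ • f i = f i from inv_smul_eq_iff.2 (hwfix i h2).symm,
      hufix i h1 (by omega), hwfix i h2]
  have hzu : u * z = z * u := h.zel_comm (hufix 3 (by omega) (by omega))
  have hze : e' * z = z * e' := h.zel_comm (he'fix 3 (by omega) le_rfl)
  have hss : s⁻¹ = s := h.inv_of_w c.start hs
  have hse : s * (s * u * e') = s * u * e' * s := by
    have a1 : s * u = z * u * s := by rw [show z = _ from c1.symm]; group
    have a2 : s * e' = z * e' * s := by rw [← c2]; group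
    calc s * (s * u * e') = s * (s * u) * e' := by group
      _ = s * (z * u * s) * e' := by rw [a1]
      _ = s * z * u * (s * e') := by group
      _ = s * z * u * (z * e' * s) := by rw [a2]
      _ = s * z * (u * z) * e' * s := by group
      _ = s * (z * z) * u * e' * s := by rw [hzu]; group
      _ = s * u * e' * s := by rw [hzz, mul_one]
  have h12 := hnb.1 1 (by omega)
  have h02 : f 0 ≠ f 2 := hnb.2 0 (by omega)
  have hpair : (u * e') • f 0 = f 0 := by
    have m1 := h.moves_of_not_rv h12 hav.symm h02.symm (hufix 1 le_rfl (by omega))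
      (hufix 2 (by omega) (by omega)) hun
    have m2 := h.moves_of_not_rv h12 hav.symm h02.symm (he'fix 1 le_rfl (by omega))
      (he'fix 2 (by omega) (by omega)) he'n
    have au : (cosetGraph A B).Adj (f 1) (e' • f 0) := by
      have := cg_adj_smul e' hav.symm
      rwa [he'fix 1 le_rfl (by omega)] at this
    have hu1 := hufix 1 le_rfl (by omega)
    have hu2 := hufix 2 (by omega) (by omega)
    have auu : (cosetGraph A B).Adj (f 1) (u • e' • f 0) := by
      have := cg_adj_smul u au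
      rwa [hu1] at this
    have n2 : f 2 ≠ e' • f 0 := fun e =>
      h02 (MulAction.injective e' ((he'fix 2 (by omega) (by omega)).trans e)).symm
    rw [mul_smul]
    rcases h.nbr3 hav.symm h12 au auu h02 (Ne.symm m2) n2 with e | e | e
    · exact e
    · exact absurd (MulAction.injective u (e.trans hu2.symm)).symm n2
    · exact absurd e (h.moves_of_not_rv h12 au n2 hu1 hu2 hun)
  set E := s * u * e' with hE
  have hE0 : E • f 0 = f 0 := by
    rw [hE, mul_assoc, mul_smul, hpair]
    exact h.w_fix hb (by omega) hnb c.start hs (Nat.zero_le 5)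
  have hEδ : E • δ = δ := h.smul_eq_of_comm hδ c.start hE0 hse.symm
  have hwE : w * E * w⁻¹ = E * z := by
    have hww : w * w = 1 := by
      rw [mul_eq_one_iff_eq_inv]; exact (h.inv_of_w hεl hw).symm
    calc w * E * w⁻¹ = (w * s * w⁻¹) * (w * u * w⁻¹) * (w * e' * w⁻¹) := by rw [hE]; group
      _ = s * e' * (w * w * u * (w * w)⁻¹) := by rw [hws, mul_inv_cancel_right, he']; group
      _ = s * (z⁻¹ * (u * e')) := by rw [hww, ← c3]; group
      _ = E * z := by
        rw [inv_eq_of_mul_eq_one_right hzz, hE, ← mul_assoc z, ← hzu, mul_assoc u, ← hze]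
        group
  have hzV : z ∈ vW T W δ := by
    have : z = E⁻¹ * w * (E⁻¹)⁻¹ * w⁻¹ := by
      rw [show E⁻¹ * w * (E⁻¹)⁻¹ * w⁻¹ = E⁻¹ * (w * E * w⁻¹) by group, hwE, inv_mul_cancel_left]
    rw [this]
    refine mul_mem (le_vW (e := E⁻¹ • ε) ?_ ?_) (le_vW hε (inv_mem hw))
    · have := cg_adj_smul E⁻¹ hε
      rwa [inv_smul_eq_iff.2 hEδ.symm] at this
    · rw [h.wW_smul]; exact LocalEvenB.conjMap_apply_mem hw
  -- the test walk
  obtain ⟨y, hy, hyδ, -⟩ := h.exists_nbr_ne hε.symm δ
  have hk3 : NB 5 (cons (f 2) (cons (f 1) (cons (f 0) (cons δ (cons ε (fun _ => y)))))) := by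
    have a0 : NB 0 (fun _ : ℕ => y) := ⟨fun i hi => by omega, fun i hi => by omega⟩
    exact ((((a0.cons hy (Or.inl rfl)).cons hε (Or.inr (Ne.symm hyδ))).cons hδ
      (Or.inr (Ne.symm hε0))).cons hav.symm (Or.inr (Ne.symm hδv))).cons h12.symm
      (Or.inr h02.symm)
  have h2l : (f 2).isLeft = true := hnb.left c.start (by omega) rfl
  have ck3 := h.all_crit c le_rfl hk3 h2l
  have hzy : z ∈ rv y := by
    refine (iSup_le fun e => ?_ : vW T W δ ≤ rv y) hzV
    exact hb 3 (by omega) _ _ (left_of_right e.2 hδr)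
      (Near.cons e.2.symm (Near.cons hε (Near.one hy)))
  have := (ck3.mem_iff h (w := z) (h.zel_mem (hnb.1 2 (by omega)) h2l)).1 hzy
  change z = 1 ∨ z = zel A B T W (f 1) at this
  rcases this with e | e
  · exact (h.zel_mem_pt (hnb.1 2 (by omega)) h2l).2 e
  · exact hnb.2 1 (by omega) (h.zel_inj h12.symm (hnb.1 2 (by omega)) h2l e.symm)

theorem no_odd_long (h : Mix T A B W) (c : OddCrit A B T W b f) (hb5 : 5 ≤ b) : False := by
  rcases Nat.eq_or_lt_of_le hb5 with rfl | hlt
  · exact h.no_odd_five c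
  · exact h.no_odd_seven c (by have := c.odd; omega)

end Mix

end Cfsg.Agent.LocalEvenA.Gold
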