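import Cfsg.Agent.Lib.LocalEvenA.Gold.Odd

/-!
Products of two points at an inactive vertex.
-/

set_option autoImplicit false

namespace Cfsg.Agent.LocalEvenA.Gold

open Subgroup Cfsg Agent.LocalEvenA Cfsg.Agent.LocalEvenB.ZN

variable {G : Type*} [Group G] {T A B W : Subgroup G}

/-- An element of the four-group of `γ` off the point of `v`. -/
def Out (T W : Subgroup G) (v γ : CosetVertex A B) (x : G) : Prop :=
  x ∈ wW T W γ ∧ x ≠ 1 ∧ x ≠ zel A B T W v

/-- The product of two such elements at the neighbours of `v` other than `c`. -/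
def PC (T W : Subgroup G) (v c : CosetVertex A B) (p : G) : Prop :=
  ∃ γ γ', (cosetGraph A B).Adj v γ ∧ (cosetGraph A B).Adj v γ' ∧ γ ≠ c ∧ γ' ≠ c ∧ γ ≠ γ' ∧
    ∃ x y, Out T W v γ x ∧ Out T W v γ' y ∧ p = x * y

/-- Every such product lies in the four-group of the remaining neighbour. -/
def Small (A B T W : Subgroup G) : Prop :=
  ∀ (v c : CosetVertex A B) (p : G), v.isLeft = false → (cosetGraph A B).Adj v c → PC T W v c p →
    p ∈ wW T W c

variable [Finite G] {b : ℕ} {v c : CosetVertex A B}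

namespace Mix

theorem vW_commute (h : Mix T A B W) (hb : BelowA A B T W b) (hb3 : 3 ≤ b)
    (hv : v.isLeft = false) {x y : G} (hx : x ∈ vW T W v) (hy : y ∈ vW T W v) :
    x * y = y * x := by
  have h1 : vW T W v ≤ centralizer (vW T W v : Set G) := by
    refine iSup_le fun e => ?_
    intro a ha
    refine mem_centralizer_iff.2 fun z hz => ?_
    have h2 : vW T W v ≤ centralizer ({a} : Set G) := iSup_le fun e' q hq =>
      mem_centralizer_singleton_iff.2 (h.w_comm hb (left_of_right e'.2 hv) (left_of_right e.2 hv)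
        (Near.cons e'.2.symm (Near.one e.2)) (by omega) hq ha)
    exact mem_centralizer_singleton_iff.1 (h2 hz)
  exact mem_centralizer_iff.1 (h1 hy) x hx

theorem vW_sq (h : Mix T A B W) (hb : BelowA A B T W b) (hb3 : 3 ≤ b)
    (hv : v.isLeft = false) {x : G} (hx : x ∈ vW T W v) : x * x = 1 := by
  let S : Subgroup G :=
    { carrier := {a | a ∈ vW T W v ∧ a * a = 1}
      one_mem' := ⟨one_mem _, mul_one 1⟩
      mul_mem' := fun {a a'} ha ha' => ⟨mul_mem ha.1 ha'.1, by
        calc a * a' * (a * a') = a * (a' * a) * a' := by group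
          _ = a * (a * a') * a' := by rw [h.vW_commute hb hb3 hv ha'.1 ha.1]
          _ = (a * a) * (a' * a') := by group
          _ = 1 := by rw [ha.2, ha'.2, mul_one]⟩
      inv_mem' := fun {a} ha => ⟨inv_mem ha.1, by rw [← mul_inv_rev, ha.2, inv_one]⟩ }
  have hle : vW T W v ≤ S := iSup_le fun e q hq =>
    ⟨le_vW e.2 hq, (h.side e.2.symm (left_of_right e.2 hv)).sq q hq⟩
  exact (hle hx).2

theorem out_unique (h : Mix T A B W) (hv : v.isLeft = false) {γ : CosetVertex A B}
    (ha : (cosetGraph A B).Adj v γ) {x x' : G} (hx : Out T W v γ x) (hx' : Out T W v γ x') :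
    x' = x ∨ x' = x * zel A B T W v := by
  have hl := left_of_right ha hv
  obtain ⟨v', hv', hne, -⟩ := h.exists_nbr_ne ha.symm v
  have hcomm : zel A B T W v * zel A B T W v' = zel A B T W v' * zel A B T W v :=
    (h.side ha.symm hl).W_commute (h.zel_mem ha.symm hl) (h.zel_mem hv' hl)
  have hzz := (h.side ha.symm hl).sq _ (h.zel_mem ha.symm hl)
  have cases : ∀ y, Out T W v γ y → y = zel A B T W v' ∨
      y = zel A B T W v * zel A B T W v' := by
    intro y hy
    rcases h.w_cases ha.symm hv' hl (Ne.symm hne) hy.1 with e | e | e | e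
    · exact absurd e hy.2.1
    · exact absurd e hy.2.2
    · exact Or.inl e
    · exact Or.inr e
  rcases cases x hx with rfl | rfl <;> rcases cases x' hx' with rfl | rfl
  · exact Or.inl rfl
  · exact Or.inr hcomm
  · refine Or.inr ?_
    rw [hcomm, mul_assoc, hzz, mul_one]
  · exact Or.inl rfl

theorem out_smul (h : Mix T A B W) {γ : CosetVertex A B} {x : G} (g : G)
    (hx : Out T W v γ x) : Out T W (g • v) (g • γ) (g * x * g⁻¹) := by
  refine ⟨?_, fun e => hx.2.1 (conj_eq_one_iff.1 e), fun e => hx.2.2 ?_⟩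
  · rw [h.wW_smul]; exact LocalEvenB.conjMap_apply_mem hx.1
  · rw [h.zel_smul] at e
    simpa using e

theorem pc_smul (h : Mix T A B W) {p : G} (g : G) (hp : PC T W v c p) :
    PC T W (g • v) (g • c) (g * p * g⁻¹) := by
  obtain ⟨γ, γ', h1, h2, h3, h4, h5, x, y, hx, hy, rfl⟩ := hp
  exact ⟨g • γ, g • γ', cg_adj_smul g h1, cg_adj_smul g h2,
    fun e => h3 (MulAction.injective g e), fun e => h4 (MulAction.injective g e),
    fun e => h5 (MulAction.injective g e), g * x * g⁻¹, g * y * g⁻¹, h.out_smul g hx,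
    h.out_smul g hy, by group⟩

theorem pc_mem {p : G} (hp : PC T W v c p) : p ∈ vW T W v := by
  obtain ⟨γ, γ', h1, h2, -, -, -, x, y, hx, hy, rfl⟩ := hp
  exact mul_mem (le_vW h1 hx.1) (le_vW h2 hy.1)

theorem pc_unique (h : Mix T A B W) (hb : BelowA A B T W b) (hb3 : 3 ≤ b)
    (hv : v.isLeft = false) (hc : (cosetGraph A B).Adj v c) {p p' : G} (hp : PC T W v c p)
    (hp' : PC T W v c p') : p' = p ∨ p' = p * zel A B T W v := by
  obtain ⟨γ, γ', h1, h2, h3, h4, h5, x, y, hx, hy, rfl⟩ := hp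
  obtain ⟨δ, δ', k1, k2, k3, k4, k5, x', y', hx', hy', rfl⟩ := hp'
  set z := zel A B T W v
  have hzV : z ∈ vW T W v := le_vW h1 (h.zel_mem h1.symm (left_of_right h1 hv))
  have hxV := le_vW h1 hx.1
  have hyV := le_vW h2 hy.1
  have hzz : z * z = 1 := h.vW_sq hb hb3 hv hzV
  have key : ∀ x' y', Out T W v γ x' → Out T W v γ' y' →
      x' * y' = x * y ∨ x' * y' = x * y * z := by
    intro x' y' hx' hy'
    rcases h.out_unique hv h1 hx hx' with rfl | rfl <;>
      rcases h.out_unique hv h2 hy hy' with rfl | rfl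
    · exact Or.inl rfl
    · exact Or.inr (mul_assoc _ _ _).symm
    · exact Or.inr (by rw [mul_assoc, h.vW_commute hb hb3 hv hzV hyV, ← mul_assoc])
    · refine Or.inl ?_
      rw [show x * z * (y * z) = x * (z * y) * z by group, h.vW_commute hb hb3 hv hzV hyV,
        show x * (y * z) * z = x * y * (z * z) by group, hzz, mul_one]
  rcases h.nbr3 hc h1 h2 k1 (Ne.symm h3) (Ne.symm h4) h5 with rfl | rfl | rfl
  · exact absurd rfl k3
  · rcases h.nbr3 hc h1 h2 k2 (Ne.symm h3) (Ne.symm h4) h5 with rfl | rfl | rfl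
    · exact absurd rfl k4
    · exact absurd rfl k5
    · exact key x' y' hx' hy'
  · rcases h.nbr3 hc h1 h2 k2 (Ne.symm h3) (Ne.symm h4) h5 with rfl | rfl | rfl
    · exact absurd rfl k4
    · rw [h.vW_commute hb hb3 hv (le_vW k1 hx'.1) (le_vW k2 hy'.1)]
      exact key y' x' hy' hx'
    · exact absurd rfl k5

theorem small_of_one (h : Mix T A B W) (hb : BelowA A B T W b) (hb3 : 3 ≤ b)
    (hv : v.isLeft = false) (hc : (cosetGraph A B).Adj v c) {p : G} (hp : PC T W v c p)
    (hmem : p ∈ wW T W c) : Small A B T W := by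
  intro v' c' p' hv' hc' hp'
  obtain ⟨g, hgv, hgc⟩ := edge_trans hc hc' (hv'.trans hv.symm)
  have h1 := h.pc_smul g hp
  rw [hgv, hgc] at h1
  have h2 : g * p * g⁻¹ ∈ wW T W c' := by
    rw [← hgc, h.wW_smul]; exact LocalEvenB.conjMap_apply_mem hmem
  rcases h.pc_unique hb hb3 hv' hc' h1 hp' with e | e <;> rw [e]
  · exact h2
  · exact mul_mem h2 (h.zel_mem hc'.symm (left_of_right hc' hv'))

/-- A product common to two neighbours of an active vertex lies in its four-group. -/
theorem dl (h : Mix T A B W) (hb : BelowA A B T W b) (hb3 : 3 ≤ b) (hcl : c.isLeft = true)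
    {v v' : CosetVertex A B} (hv : (cosetGraph A B).Adj c v) (hv' : (cosetGraph A B).Adj c v')
    (hne : v ≠ v') {p : G} (hp : PC T W v c p) (hp' : PC T W v' c p) :
    p ∈ wW T W c := by
  have hs := h.side hv hcl
  have hl := h.loc hv
  have hvr := right_of_left hv hcl
  have hpV := pc_mem hp
  have hWV : wW T W c ≤ vW T W v := le_vW hv.symm
  have hpW : ∀ w ∈ wW T W c, p * w = w * p := fun w hw =>
    h.vW_commute hb hb3 hvr hpV (hWV hw)
  have hpp : p * p = 1 := h.vW_sq hb hb3 hvr hpV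
  have hzc : ∀ n, (cosetGraph A B).Adj c n → zel A B T W n ∈ wW T W c := fun n hn =>
    h.zel_mem hn hcl
  obtain ⟨w3, hw3, hw3v, hw3v'⟩ := h.exists_nbr_ne hv v'
  obtain ⟨g, hgE, hgR⟩ := hl.exists_T_not_R
  have hgc : g • c = c := hgE.1
  have hgv : g • v = v := hgE.2
  have hgv' : g • v' = w3 := by
    have hadj := cg_adj_smul g hv'
    rw [hgc] at hadj
    rcases h.nbr3 hv hv' hw3 hadj hne (Ne.symm hw3v) (Ne.symm hw3v') with e | e | e
    · exact absurd (MulAction.injective g (e.trans hgv.symm)).symm hne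
    · exact absurd e (h.moves_of_not_rv hv hv' hne hgc hgv hgR)
    · exact e
  have hcoset : ∀ n q, (cosetGraph A B).Adj c n → PC T W n c q →
      ∃ w ∈ wW T W c, q = p * w := by
    intro n q hn hq
    have key : ∀ q₀, PC T W n c q₀ → (∃ w ∈ wW T W c, q₀ = p * w) →
        ∃ w ∈ wW T W c, q = p * w := by
      rintro q₀ hq₀ ⟨w, hw, rfl⟩
      rcases h.pc_unique hb hb3 (right_of_left hn hcl) hn.symm hq₀ hq with e | e
      · exact ⟨w, hw, e⟩
      · exact ⟨w * zel A B T W n, mul_mem hw (hzc n hn), by rw [e, mul_assoc]⟩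
    rcases h.nbr3 hv hv' hw3 hn hne (Ne.symm hw3v) (Ne.symm hw3v') with rfl | rfl | rfl
    · exact key p hp ⟨1, one_mem _, (mul_one p).symm⟩
    · exact key p hp' ⟨1, one_mem _, (mul_one p).symm⟩
    · have h1 := h.pc_smul g hp'
      rw [hgv', hgc] at h1
      refine key _ h1 ?_
      have h2 := h.pc_smul g hp
      rw [hgv, hgc] at h2
      rcases h.pc_unique hb hb3 hvr hv.symm hp h2 with e | e
      · exact ⟨1, one_mem _, by rw [e, mul_one]⟩
      · exact ⟨_, hzc v hv, e⟩
  have hnorm : ∀ k, k ∈ MulAction.stabilizer G c → ∃ w ∈ wW T W c, k * p * k⁻¹ = p * w := by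
    intro k hk
    have h1 := h.pc_smul k hp
    rw [MulAction.mem_stabilizer_iff.1 hk] at h1
    refine hcoset (k • v) _ ?_ h1
    have := cg_adj_smul k hv
    rwa [MulAction.mem_stabilizer_iff.1 hk] at this
  have hR : ∀ r ∈ rv c, r * p = p * r := by
    intro r hr
    have hrc : r • c = c := pCoreOf_le' 2 _ hr
    have h1 := h.pc_smul r hp
    rw [hrc, show r • v = v from h.rv_le_stab hv hr] at h1
    have h2 := h.pc_smul r hp'
    rw [hrc, show r • v' = v' from h.rv_le_stab hv' hr] at h2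
    rcases h.pc_unique hb hb3 hvr hv.symm hp h1 with e | e
    · exact mul_inv_eq_iff_eq_mul.1 e
    · rcases h.pc_unique hb hb3 (right_of_left hv' hcl) hv'.symm hp' h2 with e' | e'
      · exact mul_inv_eq_iff_eq_mul.1 e'
      · exact absurd (h.zel_inj hv hv' hcl (mul_left_cancel (e.symm.trans e'))) hne
  by_contra hpn
  -- a fixed point
  obtain ⟨y, hy, hyo, hyT⟩ := hs.exists_odd
  have hy3 : y * y * y = 1 := hs.cube hy hyo
  have hyc : y ∈ MulAction.stabilizer G c := hy
  obtain ⟨w1, hw1, e1⟩ := hnorm y hyc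
  obtain ⟨w2, hw2, e2⟩ := hnorm (y * y) (mul_mem hyc hyc)
  obtain ⟨d, hd⟩ : ∃ d, d = p * (y * p * y⁻¹) * (y * y * p * (y * y)⁻¹) := ⟨_, rfl⟩
  have hd' : d = p * (w1 * w2) := by
    rw [hd, e1, e2]
    calc p * (p * w1) * (p * w2) = p * p * (w1 * p) * w2 := by group
      _ = p * p * (p * w1) * w2 := by rw [← hpW w1 hw1]
      _ = p * p * p * (w1 * w2) := by group
      _ = p * (w1 * w2) := by rw [hpp, one_mul]
  have hdy : y * d = d * y := by
    refine mul_inv_eq_iff_eq_mul.1 ?_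
    have hc : ∀ a' ∈ wW T W c, Commute p (p * a') := fun a' ha' =>
      (Commute.refl p).mul_right (hpW a' ha')
    calc y * d * y⁻¹ = (y * p * y⁻¹) * (y * y * p * (y * y)⁻¹) * (y * y * y * p * (y * y * y)⁻¹) := by
          rw [hd]; group
      _ = (p * w1) * (p * w2) * p := by rw [e1, e2, hy3]; group
      _ = p * (p * w1) * (p * w2) := by
          rw [((hc w1 hw1).symm.mul_left (hc w2 hw2).symm).eq]; group
      _ = d := by rw [hd, e1, e2]
  have hdW : ∀ w ∈ wW T W c, d * w = w * d := by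
    intro w hw
    rw [hd', mul_assoc, hs.W_commute (mul_mem hw1 hw2) hw, ← mul_assoc, hpW w hw, mul_assoc]
  have hdR : ∀ r ∈ rv c, r * d = d * r := by
    intro r hr
    rw [hd']
    exact ((show Commute r p from hR r hr).mul_right
      (show Commute r (w1 * w2) from (hs.R_commute hr (mul_mem hw1 hw2)).symm)).eq
  obtain ⟨t, ht, htR⟩ := hl.exists_T_not_R
  have hti : t⁻¹ ∈ MulAction.stabilizer G c ⊓ MulAction.stabilizer G v := inv_mem ht
  have hinv := hs.inverts ht htR hy hyo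
  obtain ⟨w, hw, he⟩ : ∃ w ∈ wW T W c, t⁻¹ * d * t⁻¹⁻¹ = d * w := by
    obtain ⟨w, hw, e⟩ := hnorm t⁻¹ hti.1
    have hw' : t⁻¹ * (w1 * w2) * t⁻¹⁻¹ ∈ wW T W c := hs.conj_mem hti.1 (mul_mem hw1 hw2)
    refine ⟨(w1 * w2)⁻¹ * (w * (t⁻¹ * (w1 * w2) * t⁻¹⁻¹)),
      mul_mem (inv_mem (mul_mem hw1 hw2)) (mul_mem hw hw'), ?_⟩
    rw [show t⁻¹ * d * t⁻¹⁻¹ = (t⁻¹ * p * t⁻¹⁻¹) * (t⁻¹ * (w1 * w2) * t⁻¹⁻¹) by rw [hd']; group,
      e, hd']
    group
  -- `y` fixes the conjugate, so `w = 1`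
  have hyfix : y * (d * w) = d * w * y := by
    rw [← he]
    set r := y * (t * y * t⁻¹) with hr
    have h1 : (t * y * t⁻¹) * d = d * (t * y * t⁻¹) := by
      rw [show t * y * t⁻¹ = y⁻¹ * r by rw [hr]; group]
      exact ((show Commute y d from hdy).inv_left.mul_left (hdR r hinv)).eq
    calc y * (t⁻¹ * d * t⁻¹⁻¹) = t⁻¹ * ((t * y * t⁻¹) * d) * t := by group
      _ = t⁻¹ * (d * (t * y * t⁻¹)) * t := by rw [h1]
      _ = t⁻¹ * d * t⁻¹⁻¹ * y := by group
  have hw1' : w = 1 := by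
    refine hs.fpf hy hyo (fun e => hyT (e ▸ one_mem _)) hw ?_
    have h2 : Commute y (d⁻¹ * (d * w)) := (show Commute y d from hdy).inv_right.mul_right hyfix
    simpa using h2.eq
  rw [hw1', mul_one] at he
  have htd : t * d = d * t := by
    calc t * d = t * (t⁻¹ * d * t⁻¹⁻¹) := by rw [he]
      _ = d * t := by group
  have hE : ∀ k ∈ MulAction.stabilizer G c ⊓ MulAction.stabilizer G v, k * d = d * k := by
    intro k hk
    by_cases hkR : k ∈ rv c
    · exact hdR k hkR
    · have h1 : Commute (k * t * t⁻¹) d := Commute.mul_left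
        (hdR _ (hl.mul_mem_R hk ht hkR htR)) (show Commute t d from htd).inv_left
      simpa using h1.eq
  have hyv : y • v ≠ v := fun e => hyT ⟨hy, e⟩
  have hall := h.cent_of_move hv hE hyc hyv hdy
  have hdV : d ∈ vW T W v := hd' ▸ mul_mem hpV (hWV (mul_mem hw1 hw2))
  have hVR : vW T W v ≤ rv v := iSup_le fun e =>
    hb 1 (by omega) _ _ (left_of_right e.2 hvr) (Near.one e.2.symm)
  have hd1 := h.z_kill hv hcl ⟨h.rv_le_stab hv.symm (hVR hdV), pCoreOf_le' 2 _ (hVR hdV)⟩
    (h.vW_sq hb hb3 hvr hdV) hall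
  refine hpn ?_
  rw [hd'] at hd1
  rw [eq_inv_of_mul_eq_one_left hd1]
  exact inv_mem (mul_mem hw1 hw2)

end Mix

end Cfsg.Agent.LocalEvenA.Gold
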