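import Cfsg.Agent.Lib.LocalEvenA.Gold.Three
import Cfsg.Agent.Lib.LocalEvenA.SThreeAmalgam

/-!
Goldschmidt's bound for amalgams of index (3, 3).
-/

set_option autoImplicit false

namespace Cfsg.Agent.LocalEvenA.Gold

open Subgroup Cfsg Agent.LocalEvenA Cfsg.Agent.LocalEvenB.ZN

variable {G : Type*} [Group G]

/-- The numerical data of one member. -/
structure Mem (T M : Subgroup G) : Prop where
  le : T ≤ M
  pg : IsPGroup 2 (T.subgroupOf M)
  idx : (T.subgroupOf M).index = 3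
  coreT : pCore 2 M ≤ T.subgroupOf M
  idxR : (pCore 2 M).relIndex (T.subgroupOf M) = 2

theorem mem_of {T M : Subgroup G} [Finite M] (hTM : T ≤ M)
    (hS : ∃ S : Sylow 2 M, (S : Subgroup M) = T.subgroupOf M)
    (h3 : Nonempty (M ⧸ pCore 2 M ≃* Equiv.Perm (Fin 3))) : Mem T M := by
  haveI : Fact (Nat.Prime 2) := ⟨Nat.prime_two⟩
  obtain ⟨S, hS⟩ := hS
  haveI : (pCore 2 M).Normal := pCore_normal 2 M
  have hTp : IsPGroup 2 (T.subgroupOf M) := hS ▸ S.2
  have hQT : pCore 2 M ≤ T.subgroupOf M := hS ▸ Basics.pCore_le_sylow 2 S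
  have hQ6 : (pCore 2 M).index = 6 := by
    obtain ⟨e⟩ := h3
    rw [index_eq_card, Nat.card_congr e.toEquiv, Nat.card_perm, Nat.card_fin]
    rfl
  have h2 : ¬ 2 ∣ (T.subgroupOf M).index := hS ▸ S.not_dvd_index
  have hmul := relIndex_mul_index hQT
  rw [hQ6] at hmul
  have hdvd : (T.subgroupOf M).index ∣ 6 := Dvd.intro_left _ hmul
  have hne1 : (T.subgroupOf M).index ≠ 1 := by
    intro h1
    obtain ⟨n, hn⟩ := IsPGroup.iff_card.1 (hTp.to_le (le_of_eq (index_eq_one.1 h1).symm))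
    rw [card_top] at hn
    have h6 : (pCore 2 M).index ∣ 2 ^ n := hn ▸ index_dvd_card _
    rw [hQ6] at h6
    exact absurd (Nat.prime_three.dvd_of_dvd_pow ((show 3 ∣ 6 by norm_num).trans h6)) (by norm_num)
  have hidx : (T.subgroupOf M).index = 3 := by
    have := Nat.le_of_dvd (by norm_num) hdvd
    interval_cases hh : (T.subgroupOf M).index <;> omega
  refine ⟨hTM, hTp, hidx, hQT, ?_⟩
  rw [hidx] at hmul; omega

namespace Mem

variable {T M : Subgroup G}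

theorem card_core (m : Mem T M) [Finite M] : 2 * Nat.card (pCore 2 M) = Nat.card T := by
  have := relIndex_mul_relIndex ⊥ _ _ bot_le m.coreT
  rw [relIndex_bot_left, relIndex_bot_left, m.idxR,
    Nat.card_congr (subgroupOfEquivOfLe m.le).toEquiv] at this
  omega

theorem eq_top (m : Mem T M) {H : Subgroup M} (hT : T.subgroupOf M ≤ H)
    (hne : ¬ H ≤ T.subgroupOf M) : H = ⊤ := by
  have h1 := relIndex_mul_index hT
  rw [m.idx] at h1
  rcases (Nat.dvd_prime Nat.prime_three).1 (Dvd.intro _ h1) with h2 | h2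
  · exact absurd (relIndex_eq_one.1 h2) hne
  · rw [h2] at h1
    exact index_eq_one.1 (by omega)

end Mem

/-- A core that is not self-centralising. -/
theorem degenerate_bound {T M₁ M₂ : Subgroup G} [Finite M₁] [Finite M₂] (m₁ : Mem T M₁)
    (m₂ : Mem T M₂)
    (hc : ∀ N : Subgroup G, N ≤ T → (N.subgroupOf M₁).Normal → (N.subgroupOf M₂).Normal → N = ⊥)
    (hd : ¬ centralizer (pCore 2 M₁ : Set M₁) ≤ pCore 2 M₁) : Nat.card T ≤ 16 := by
  haveI : (pCore 2 M₁).Normal := pCore_normal 2 M₁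
  haveI : (pCore 2 M₂).Normal := pCore_normal 2 M₂
  haveI : (centralizer (pCore 2 M₁ : Set M₁)).Normal := normal_centralizer
  obtain ⟨y, hy, hyT⟩ : ∃ y ∈ centralizer (pCore 2 M₁ : Set M₁), y ∉ T.subgroupOf M₁ := by
    by_contra hcon
    push Not at hcon
    exact hd (le_pCore_of_normal inferInstance (m₁.pg.to_le hcon))
  set Q : Subgroup G := (pCore 2 M₁).map M₁.subtype with hQ
  have hQT : Q ≤ T := by
    rintro _ ⟨q, hq, rfl⟩; exact m₁.coreT hq
  set D : Subgroup M₂ := Q.subgroupOf M₂ ⊓ pCore 2 M₂ with hD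
  have hTD : T.subgroupOf M₂ ≤ normalizer (D : Set M₂) := by
    intro t ht
    refine LocalEvenB.mem_normalizer_of_conj_mem fun n hn => ⟨?_, ?_⟩
    · obtain ⟨q, hq, hqn⟩ := hn.1
      exact ⟨⟨t, m₁.le ht⟩ * q * ⟨t, m₁.le ht⟩⁻¹, Normal.conj_mem inferInstance q hq _, by
        change (t : G) * (q : G) * (t : G)⁻¹ = (t : G) * (n : G) * (t : G)⁻¹
        rw [show (q : G) = (n : G) from hqn]⟩
    · exact Normal.conj_mem inferInstance n hn.2 _
  haveI : Fintype (M₂ ⧸ T.subgroupOf M₂) := Fintype.ofFinite _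
  set f : M₂ ⧸ T.subgroupOf M₂ → Subgroup M₂ := fun q => D.map (MulAut.conj q.out).toMonoidHom
  set K : Subgroup M₂ := ⨅ q, f q with hK
  have hKconj : ∀ (g : M₂) k, k ∈ K → g⁻¹ * k * g ∈ D := by
    intro g k hk
    obtain ⟨⟨t, ht⟩, he⟩ := QuotientGroup.mk_out_eq_mul (T.subgroupOf M₂) g
    obtain ⟨d, hd', hdk⟩ := mem_iInf.1 hk (g : M₂ ⧸ T.subgroupOf M₂)
    have e : g⁻¹ * k * g = t * d * t⁻¹ := by
      rw [← hdk]
      show g⁻¹ * (_ * d * _⁻¹) * g = _
      rw [he]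
      group
    rw [e]
    exact (mem_normalizer_iff.1 (hTD ht) d).1 hd'
  have hKn : ∀ (h : M₂) k, k ∈ K → h * k * h⁻¹ ∈ K := by
    intro h k hk
    refine mem_iInf.2 fun q => ⟨(h⁻¹ * q.out)⁻¹ * k * (h⁻¹ * q.out), hKconj _ k hk, ?_⟩
    show q.out * _ * q.out⁻¹ = _
    group
  set N : Subgroup G := K.map M₂.subtype with hN
  have hKD : ∀ k ∈ K, k ∈ D := fun k hk => by simpa using hKconj 1 k hk
  have hNQ : N ≤ Q := by
    rintro _ ⟨k, hk, rfl⟩; exact (hKD k hk).1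
  have n2 : (N.subgroupOf M₂).Normal := ⟨fun n hn g => by
    obtain ⟨k, hk, hkn⟩ := hn
    exact ⟨_, hKn g k hk, by rw [show k = n from Subtype.ext hkn]⟩⟩
  have n1 : (N.subgroupOf M₁).Normal := by
    have h1 : T.subgroupOf M₁ ≤ normalizer (N.subgroupOf M₁ : Set M₁) := by
      intro t ht
      refine LocalEvenB.mem_normalizer_of_conj_mem fun n hn => ?_
      obtain ⟨k, hk, hkn⟩ := hn
      exact ⟨_, hKn ⟨t, m₂.le ht⟩ k hk, by
        change (t : G) * (k : G) * (t : G)⁻¹ = (t : G) * (n : G) * (t : G)⁻¹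
        rw [show (k : G) = (n : G) from hkn]⟩
    have hyN : y ∈ normalizer (N.subgroupOf M₁ : Set M₁) := by
      refine LocalEvenB.mem_normalizer_of_conj_mem fun n hn => ?_
      obtain ⟨q, hq, hqn⟩ := hNQ hn
      rw [show n = q from Subtype.ext hqn.symm] at hn ⊢
      rwa [← mem_centralizer_iff.1 hy q hq, mul_inv_cancel_right]
    exact normalizer_eq_top_iff.1 (m₁.eq_top h1 fun hle => hyT (hle hyN))
  have h0 := hc N (hNQ.trans hQT) n1 n2
  rw [hN, map_eq_bot_iff_of_injective _ M₂.subtype_injective] at h0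
  have hle : (Q.subgroupOf M₂).relIndex (pCore 2 M₂) ≤ 2 := by
    have e : (Q.subgroupOf M₂).relIndex (T.subgroupOf M₂) = 2 := by
      rw [relIndex_subgroupOf m₂.le, hQ,
        show T = (T.subgroupOf M₁).map M₁.subtype by rw [map_subgroupOf_eq_of_le m₁.le],
        relIndex_map_map_of_injective _ _ M₁.subtype_injective]
      exact m₁.idxR
    exact (relIndex_le_of_le_right m₂.coreT (by omega)).trans e.le
  have hfq : ∀ q, (f q).relIndex (pCore 2 M₂) ≤ 2 := by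
    intro q
    have : (pCore 2 M₂).map (MulAut.conj q.out).toMonoidHom = pCore 2 M₂ :=
      pCore_map_iso (MulAut.conj q.out)
    rw [show (f q).relIndex (pCore 2 M₂) =
      (f q).relIndex ((pCore 2 M₂).map (MulAut.conj q.out).toMonoidHom) by rw [this],
      relIndex_map_map_of_injective _ _ (MulAut.conj q.out).injective, hD, inf_relIndex_right]
    exact hle
  have h8 : K.relIndex (pCore 2 M₂) ≤ 8 := by
    refine (relIndex_iInf_le f).trans ((Finset.prod_le_pow_card _ _ 2 fun q _ => hfq q).trans ?_)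
    rw [Finset.card_univ, ← Nat.card_eq_fintype_card, ← index_eq_card, m₂.idx]; norm_num
  rw [h0, relIndex_bot_left] at h8
  have := m₂.card_core
  omega

/-- A finite completion. -/
theorem exists_completion {T M₁ M₂ : Subgroup G} [Finite M₁] [Finite M₂] (m₁ : Mem T M₁)
    (m₂ : Mem T M₂)
    (hc : ∀ N : Subgroup G, N ≤ T → (N.subgroupOf M₁).Normal → (N.subgroupOf M₂).Normal → N = ⊥)
    (h1 : pCore 2 M₁ ≠ ⊥) :
    ∃ (f₁ : M₁ →* Equiv.Perm M₁) (f₂ : M₂ →* Equiv.Perm M₁), Function.Injective f₁ ∧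
      Function.Injective f₂ ∧ (T.subgroupOf M₁).map f₁ = (T.subgroupOf M₂).map f₂ ∧
      f₁.range ⊓ f₂.range = (T.subgroupOf M₁).map f₁ ∧
      ∀ N : Subgroup (Equiv.Perm M₁), N ≤ (T.subgroupOf M₁).map f₁ →
        f₁.range ≤ normalizer (N : Set _) → f₂.range ≤ normalizer (N : Set _) → N = ⊥ := by
  classical
  obtain ⟨ι, hι⟩ : ∃ ι : T.subgroupOf M₁ ≃* T.subgroupOf M₂, ∀ a, ((ι a : M₂) : G) = (a : M₁) :=
    ⟨(subgroupOfEquivOfLe m₁.le).trans (subgroupOfEquivOfLe m₂.le).symm, fun _ => rfl⟩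
  haveI : Fintype (M₁ ⧸ T.subgroupOf M₁) := Fintype.ofFinite _
  haveI : Fintype (M₂ ⧸ T.subgroupOf M₂) := Fintype.ofFinite _
  obtain ⟨φ, hφ⟩ := ZNB.exists_regular_equiv ι (Fintype.equivOfCardEq (by
    rw [← Nat.card_eq_fintype_card, ← Nat.card_eq_fintype_card, ← index_eq_card, ← index_eq_card,
      m₁.idx, m₂.idx]))
  let f₁ : M₁ →* Equiv.Perm M₁ := MulAction.toPermHom M₁ M₁
  let f₂ : M₂ →* Equiv.Perm M₁ :=
    φ.symm.permCongrHom.toMonoidHom.comp (MulAction.toPermHom M₂ M₂)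
  have hf₁ : Function.Injective f₁ := MulAction.toPerm_injective
  have hf₂ : Function.Injective f₂ :=
    φ.symm.permCongrHom.injective.comp MulAction.toPerm_injective
  have hag : ∀ a : T.subgroupOf M₁, f₁ (a : M₁) = f₂ (ι a : M₂) := by
    intro a
    refine Equiv.ext fun x => ?_
    show (a : M₁) * x = φ.symm ((ι a : M₂) * φ x)
    rw [← hφ, φ.symm_apply_apply]
  have hmapT : (T.subgroupOf M₁).map f₁ = (T.subgroupOf M₂).map f₂ := by
    apply le_antisymm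
    · rintro _ ⟨a, ha, rfl⟩
      exact ⟨ι ⟨a, ha⟩, (ι ⟨a, ha⟩).2, (hag ⟨a, ha⟩).symm⟩
    · rintro _ ⟨c, hc', rfl⟩
      obtain ⟨a, ha⟩ := ι.surjective ⟨c, hc'⟩
      exact ⟨a, a.2, by rw [hag, ha]⟩
  set T' := (T.subgroupOf M₁).map f₁ with hT'
  have hno : ∀ N : Subgroup (Equiv.Perm M₁), N ≤ T' → f₁.range ≤ normalizer (N : Set _) →
      f₂.range ≤ normalizer (N : Set _) → N = ⊥ := by
    intro N hN hN1 hN2
    set N₀ : Subgroup G := ((N.comap f₁) ⊓ T.subgroupOf M₁).map M₁.subtype with hN0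
    have hle : N₀ ≤ T := by
      rintro _ ⟨n, ⟨-, hn⟩, rfl⟩
      exact hn
    have n1 : (N₀.subgroupOf M₁).Normal := ⟨fun a ha g => by
      obtain ⟨n, ⟨hn, -⟩, hna⟩ := ha
      have h1 := (mem_normalizer_iff.1 (hN1 ⟨g, rfl⟩) (f₁ n)).1 hn
      rw [← map_mul, ← map_inv, ← map_mul] at h1
      obtain ⟨m, hm, hme⟩ := hN h1
      exact ⟨g * n * g⁻¹, ⟨h1, hf₁ hme ▸ hm⟩, by rw [show n = a from Subtype.ext hna]⟩⟩
    have n2 : (N₀.subgroupOf M₂).Normal := ⟨fun a ha g => by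
      obtain ⟨n, ⟨hn, hnT⟩, hna⟩ := ha
      have ea : (ι ⟨n, hnT⟩ : M₂) = a := Subtype.ext ((hι _).trans hna)
      have hn' : f₂ a ∈ N := by rw [← ea, ← hag]; exact hn
      have h1 := (mem_normalizer_iff.1 (hN2 ⟨g, rfl⟩) _).1 hn'
      rw [← map_mul, ← map_inv, ← map_mul] at h1
      obtain ⟨m, hm, hme⟩ := hN h1
      refine ⟨m, ⟨?_, hm⟩, ?_⟩
      · show f₁ m ∈ N
        rw [hme]; exact h1
      · have h2 : (ι ⟨m, hm⟩ : M₂) = g * a * g⁻¹ := hf₂ (by rw [← hag]; exact hme)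
        exact (hι ⟨m, hm⟩).symm.trans (congrArg Subtype.val h2)⟩
    have h0 := hc N₀ hle n1 n2
    rw [eq_bot_iff]
    intro x hx
    obtain ⟨n, hn, rfl⟩ := hN hx
    have hn0 : (n : G) = 1 := (eq_bot_iff_forall _).1 h0 _ ⟨n, ⟨hx, hn⟩, rfl⟩
    rw [show n = 1 from Subtype.ext hn0, map_one]
    exact one_mem _
  refine ⟨f₁, f₂, hf₁, hf₂, hmapT, ?_, hno⟩
  refine le_antisymm ?_ (le_inf (map_le_range _ _) (hmapT.le.trans (map_le_range _ _)))
  rintro _ ⟨⟨a, rfl⟩, ⟨c, hac⟩⟩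
  by_contra hn
  -- otherwise the ranges agree
  have k1 : (T.subgroupOf M₁) ≤ f₂.range.comap f₁ := fun x hx =>
    (hmapT.le.trans (map_le_range _ _)) ⟨x, hx, rfl⟩
  have k2 : (T.subgroupOf M₂) ≤ f₁.range.comap f₂ := fun x hx =>
    (hmapT.ge.trans (map_le_range _ _)) ⟨x, hx, rfl⟩
  have e1 := m₁.eq_top k1 fun hle => hn ⟨a, hle ⟨c, hac⟩, rfl⟩
  have e2 := m₂.eq_top k2 fun hle => hn (hmapT.ge ⟨c, hle ⟨a, hac.symm⟩, hac⟩)
  have h21 : f₂.range ≤ f₁.range := by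
    rintro _ ⟨x, rfl⟩; exact e2.ge (mem_top x)
  haveI : (pCore 2 M₁).Normal := pCore_normal 2 M₁
  have hnorm : f₁.range ≤ normalizer ((pCore 2 M₁).map f₁ : Set _) := by
    rintro _ ⟨g, rfl⟩
    exact le_normalizer_map f₁ ⟨g, by rw [normalizer_eq_top]; trivial, rfl⟩
  have h0 := hno _ (map_mono m₁.coreT) hnorm (h21.trans hnorm)
  exact h1 ((map_eq_bot_iff_of_injective _ hf₁).1 h0)

theorem core_ne_bot {M : Subgroup G} {T : Subgroup G} (m : Mem T M)
    (hc : centralizer (pCore 2 M : Set M) ≤ pCore 2 M) : pCore 2 M ≠ ⊥ := by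
  intro h
  have h1 : (⊤ : Subgroup M) ≤ pCore 2 M := fun x _ => hc (mem_centralizer_iff.2 fun y hy => by
    rw [h] at hy; rw [mem_bot.1 hy, one_mul, mul_one])
  have h2 : T.subgroupOf M = ⊤ := top_le_iff.1 (h1.trans m.coreT)
  have := m.idx
  rw [h2, index_top] at this
  omega

/-- One member with active centre. -/
theorem active_bound {T M₁ M₂ : Subgroup G} [Finite M₁] [Finite M₂] (m₁ : Mem T M₁)
    (m₂ : Mem T M₂)
    (hc : ∀ N : Subgroup G, N ≤ T → (N.subgroupOf M₁).Normal → (N.subgroupOf M₂).Normal → N = ⊥)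
    (hc₁ : centralizer (pCore 2 M₁ : Set M₁) ≤ pCore 2 M₁)
    (hc₂ : centralizer (pCore 2 M₂ : Set M₂) ≤ pCore 2 M₂) {z : M₁} (hzz : z * z = 1)
    (hzT : z ∈ centralizer (T.subgroupOf M₁ : Set M₁)) (hz : z ∉ center M₁) :
    Nat.card T ≤ 128 := by
  obtain ⟨W₁, hW4, hWs, hWq, hWn, hWk⟩ :=
    ZNB.exists_four m₁.pg m₁.idx hc₁ m₁.coreT hzz hzT hz
  obtain ⟨f₁, f₂, hf₁, hf₂, hmapT, hinter, hno⟩ :=
    exists_completion m₁ m₂ hc (core_ne_bot m₁ hc₁)
  set T' := (T.subgroupOf M₁).map f₁ with hT'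
  have hcardT : Nat.card T' = Nat.card T := by
    rw [hT', card_map_of_injective hf₁]
    exact Nat.card_congr (subgroupOfEquivOfLe m₁.le).toEquiv
  have s₁ : Side T' f₁.range (W₁.map f₁) :=
    ZNB.side_image f₁ hf₁ m₁.pg m₁.idx m₁.idxR hW4 hWs hWq hWn hWk
  rw [← hcardT]
  by_cases hact : ∃ z : M₂, z * z = 1 ∧ z ∈ centralizer (T.subgroupOf M₂ : Set M₂) ∧ z ∉ center M₂
  · obtain ⟨w, hww, hwT, hw⟩ := hact
    obtain ⟨W₂, hV4, hVs, hVq, hVn, hVk⟩ :=
      ZNB.exists_four m₂.pg m₂.idx hc₂ m₂.coreT hww hwT hw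
    have s₂ := ZNB.side_image f₂ hf₂ m₂.pg m₂.idx m₂.idxR hV4 hVs hVq hVn hVk
    rw [← hmapT] at s₂
    have hp : Pair T' f₁.range f₂.range (W₁.map f₁) (W₂.map f₂) := ⟨s₁, s₂, hinter, hno⟩
    have hcard : Nat.card T' * 3 = Nat.card f₁.range := by
      rw [← s₁.idx, ← relIndex_bot_left, ← relIndex_bot_left]
      exact relIndex_mul_relIndex ⊥ _ _ bot_le s₁.hTP
    have h48 : Nat.card f₁.range ≤ 48 := by
      rcases hp.sym_four (ZNB.points_eq hp) with ⟨⟨e⟩, -⟩ | ⟨⟨e⟩, -⟩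
      · rw [Nat.card_congr e.toEquiv, Nat.card_perm, Nat.card_fin]; decide
      · rw [Nat.card_congr e.toEquiv, Nat.card_prod, Nat.card_perm, Nat.card_fin,
          Nat.card_congr Multiplicative.toAdd, Nat.card_zmod]
        decide
    omega
  · push Not at hact
    haveI : (pCore 2 M₂).Normal := pCore_normal 2 M₂
    have hcore : pCoreOf 2 f₂.range = (pCore 2 M₂).map f₂ := by
      rw [pCoreOf, ← pCore_map_iso (p := 2) (MonoidHom.ofInjective hf₂), Subgroup.map_map]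
      rfl
    refine Mix.card_le (A := f₁.range) (B := f₂.range) (W := W₁.map f₁) ⟨s₁, ⟨s₁.hT, ?_, ?_, ?_⟩, ?_, ?_,
      hinter, hno⟩
    · exact hmapT.le.trans (map_le_range _ _)
    · show T'.relIndex _ = 3
      rw [hmapT, MonoidHom.range_eq_map, relIndex_map_map_of_injective _ _ hf₂,
        relIndex_top_right, m₂.idx]
    · show (pCoreOf 2 f₂.range).relIndex T' = 2
      rw [hmapT, hcore, relIndex_map_map_of_injective _ _ hf₂, m₂.idxR]
    · rw [hcore]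
      rintro _ ⟨⟨g, rfl⟩, hg⟩
      refine ⟨g, hc₂ (mem_centralizer_iff.2 fun q hq => hf₂ ?_), rfl⟩
      rw [map_mul, map_mul]
      exact mem_centralizer_iff.1 hg _ ⟨q, hq, rfl⟩
    · intro x hx hxx hxc
      change x ∈ T' at hx
      change ∀ t ∈ T', x * t = t * x at hxc
      rw [hmapT] at hx hxc
      obtain ⟨w, hw, rfl⟩ := hx
      have hwc : w ∈ center M₂ := hact w (hf₂ (by rw [map_mul, map_one]; exact hxx))
        (mem_centralizer_iff.2 fun t ht => hf₂ (by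
          rw [map_mul, map_mul]; exact (hxc _ ⟨t, ht, rfl⟩).symm))
      rintro _ ⟨g, rfl⟩
      rw [← map_mul, ← map_mul, mem_center_iff.1 hwc g]

theorem goldschmidt_bound {T M₁ M₂ : Subgroup G} [Finite M₁] [Finite M₂] (m₁ : Mem T M₁)
    (m₂ : Mem T M₂)
    (hc : ∀ N : Subgroup G, N ≤ T → (N.subgroupOf M₁).Normal → (N.subgroupOf M₂).Normal → N = ⊥) :
    Nat.card T ≤ 128 := by
  by_cases hc₁ : centralizer (pCore 2 M₁ : Set M₁) ≤ pCore 2 M₁
  swap
  · exact (degenerate_bound m₁ m₂ hc hc₁).trans (by norm_num)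
  by_cases hc₂ : centralizer (pCore 2 M₂ : Set M₂) ≤ pCore 2 M₂
  swap
  · exact (degenerate_bound m₂ m₁ (fun N h a a' => hc N h a' a) hc₂).trans (by norm_num)
  by_cases h1 : ∃ z : M₁, z * z = 1 ∧ z ∈ centralizer (T.subgroupOf M₁ : Set M₁) ∧ z ∉ center M₁
  · obtain ⟨z, a, a', a''⟩ := h1
    exact active_bound m₁ m₂ hc hc₁ hc₂ a a' a''
  by_cases h2 : ∃ z : M₂, z * z = 1 ∧ z ∈ centralizer (T.subgroupOf M₂ : Set M₂) ∧ z ∉ center M₂
  · obtain ⟨z, a, a', a''⟩ := h2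
    exact active_bound m₂ m₁ (fun N h x y => hc N h y x) hc₂ hc₁ a a' a''
  push Not at h1 h2
  exfalso
  haveI : Fact (Nat.Prime 2) := ⟨Nat.prime_two⟩
  haveI : Nontrivial (T.subgroupOf M₁) := by
    refine (Subgroup.nontrivial_iff_ne_bot _).2 fun e => ?_
    exact core_ne_bot m₁ hc₁ (le_bot_iff.1 (e ▸ m₁.coreT))
  haveI := m₁.pg.center_nontrivial
  obtain ⟨n, he⟩ := IsPGroup.iff_card.1 (m₁.pg.to_subgroup (center (T.subgroupOf M₁)))
  have hn : n ≠ 0 := by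
    rintro rfl
    rw [pow_zero, Nat.card_eq_one_iff_unique] at he
    exact not_subsingleton _ he.1
  obtain ⟨z, hz⟩ := exists_prime_orderOf_dvd_card' (G := center (T.subgroupOf M₁)) 2
    (by rw [he]; exact dvd_pow_self 2 hn)
  set x : M₁ := ((z : T.subgroupOf M₁) : M₁) with hx
  have hzz : z * z = 1 := by
    have := pow_orderOf_eq_one z
    rwa [hz, sq] at this
  have hxx : x * x = 1 := congrArg (fun w : center (T.subgroupOf M₁) =>
    ((w : T.subgroupOf M₁) : M₁)) hzz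
  have hxT : (x : G) ∈ T := (z : T.subgroupOf M₁).2
  have hxc : ∀ t ∈ T, t * (x : G) = x * t := fun t ht => by
    have := mem_center_iff.1 z.2 ⟨⟨t, m₁.le ht⟩, ht⟩
    exact congrArg (fun w : T.subgroupOf M₁ => ((w : M₁) : G)) this
  have c1 : x ∈ center M₁ :=
    h1 x hxx (mem_centralizer_iff.2 fun t ht => Subtype.ext (hxc t ht))
  have c2 : (⟨x, m₂.le hxT⟩ : M₂) ∈ center M₂ :=
    h2 _ (Subtype.ext (congrArg Subtype.val hxx :))
      (mem_centralizer_iff.2 fun t ht => Subtype.ext (hxc t ht))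
  have norm : ∀ {M : Subgroup G} (hM : (x : G) ∈ M), (⟨x, hM⟩ : M) ∈ center M →
      ((zpowers (x : G)).subgroupOf M).Normal := fun {M} hM hcen => ⟨fun a ha g => by
    obtain ⟨i, hi⟩ := mem_zpowers_iff.1 (mem_subgroupOf.1 ha)
    have hcx : Commute (g : G) x := congrArg Subtype.val (mem_center_iff.1 hcen g)
    rw [mem_subgroupOf, Subgroup.coe_mul, Subgroup.coe_mul, Subgroup.coe_inv, ← hi,
      (hcx.zpow_right i).eq, mul_inv_cancel_right]
    exact zpow_mem (mem_zpowers _) i⟩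
  have h0 := zpowers_eq_bot.1 (hc (zpowers (x : G)) (zpowers_le.2 hxT)
    (norm x.2 c1) (norm (m₂.le hxT) c2))
  have hz1 : z = 1 := Subtype.ext (Subtype.ext (Subtype.ext h0))
  rw [hz1, orderOf_one] at hz
  omega

end Cfsg.Agent.LocalEvenA.Gold
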