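import Cfsg.Agent.Lib.LocalEvenA.ZNFinite
import Mathlib.GroupTheory.GroupAction.Quotient

/-!
An amalgam with residues `S₃` in which exactly one side has active centre: the coset graph.
-/

set_option autoImplicit false

namespace Cfsg.Agent.LocalEvenA.Gold

open Subgroup Cfsg Agent.LocalEvenA Cfsg.Agent.LocalEvenB.ZN
open scoped Pointwise

variable {G : Type*} [Group G]

/-- A group `P` with Sylow 2-subgroup `T` of index three over its core. -/
structure Loc (T P : Subgroup G) : Prop where
  hT : IsPGroup 2 T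
  hTP : T ≤ P
  idx : T.relIndex P = 3
  idxR : (pCoreOf 2 P).relIndex T = 2

/-- The configuration with active side `A` and a side `B` centralising the centre of `T`. -/
structure Mix (T A B W : Subgroup G) : Prop where
  sA : Side T A W
  locB : Loc T B
  conB : B ⊓ centralizer (pCoreOf 2 B : Set G) ≤ pCoreOf 2 B
  zB : ∀ z ∈ T, z * z = 1 → (∀ t ∈ T, z * t = t * z) → ∀ g ∈ B, g * z = z * g
  inter : A ⊓ B = T
  noNormal : ∀ N : Subgroup G, N ≤ T → A ≤ normalizer (N : Set G) → B ≤ normalizer (N : Set G) →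
    N = ⊥

theorem Loc.map_conj {T P : Subgroup G} (h : Loc T P) (g : G) :
    Loc (T.map (MulAut.conj g).toMonoidHom) (P.map (MulAut.conj g).toMonoidHom) := by
  have hinj := (MulAut.conj g).injective
  refine ⟨h.hT.map _, map_mono h.hTP, ?_, ?_⟩
  · rw [relIndex_map_map_of_injective _ _ hinj, h.idx]
  · rw [pCoreOf_map_conj, relIndex_map_map_of_injective _ _ hinj, h.idxR]

theorem Loc.of_side {T P W : Subgroup G} (h : Side T P W) : Loc T P :=
  ⟨h.hT, h.hTP, h.idx, h.idxR⟩

section loc

variable [Finite G] {T P : Subgroup G}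

theorem Loc.R_le_T (h : Loc T P) : pCoreOf 2 P ≤ T :=
  pCoreOf_le_sylowIn ⟨h.hTP, h.hT, by rw [h.idx]; decide⟩

theorem Loc.eq_P_of_lt (h : Loc T P) {H : Subgroup G} (hTH : T ≤ H) (hHP : H ≤ P)
    (hne : ¬ H ≤ T) : H = P := by
  have h1 := relIndex_mul_relIndex T H P hTH hHP
  rw [h.idx] at h1
  rcases (Nat.dvd_prime Nat.prime_three).1 (Dvd.intro _ h1) with h2 | h2
  · exact absurd (relIndex_eq_one.1 h2) hne
  · rw [h2] at h1
    exact le_antisymm hHP (relIndex_eq_one.1 (by omega))

theorem Loc.exists_T_not_R (h : Loc T P) : ∃ t ∈ T, t ∉ pCoreOf 2 P := by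
  by_contra hc
  push Not at hc
  have := h.idxR
  rw [relIndex_eq_one.2 hc] at this
  omega

theorem Loc.mul_mem_R (h : Loc T P) {s t : G} (hs : s ∈ T) (ht : t ∈ T)
    (hsR : s ∉ pCoreOf 2 P) (htR : t ∉ pCoreOf 2 P) : s * t ∈ pCoreOf 2 P := by
  have := (mul_mem_iff_of_index_two (H := (pCoreOf 2 P).subgroupOf T) h.idxR
    (a := ⟨s, hs⟩) (b := ⟨t, ht⟩)).2 ⟨fun h' => absurd (mem_subgroupOf.1 h') hsR,
      fun h' => absurd (mem_subgroupOf.1 h') htR⟩
  exact mem_subgroupOf.1 this

theorem Loc.mem_T_of_normalizes (h : Loc T P) {g : G} (hg : g ∈ P)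
    (hn : g ∈ normalizer (T : Set G)) : g ∈ T := by
  by_contra hgT
  have heq := h.eq_P_of_lt (H := P ⊓ normalizer (T : Set G)) (le_inf h.hTP le_normalizer)
    inf_le_left (fun hle => hgT (hle ⟨hg, hn⟩))
  obtain ⟨t, ht, htR⟩ := h.exists_T_not_R
  exact htR (le_pCoreOf h.hTP (inf_eq_left.1 heq) h.hT ht)

end loc

variable {T A B W : Subgroup G}

/-- The generator of the point. -/
noncomputable def rEl (T W : Subgroup G) : G :=
  @Classical.epsilon G ⟨1⟩ fun x => x ∈ pt T W ∧ x ≠ 1

/-- The central element of a vertex of the inactive type. -/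
noncomputable def zel (A B : Subgroup G) (T W : Subgroup G) : CosetVertex A B → G :=
  Sum.elim (fun _ => 1) (fun q => MulAut.conj q.out (rEl T W))

/-- The four-group of an active vertex, the point of an inactive one. -/
noncomputable abbrev wW (T W : Subgroup G) (v : CosetVertex A B) : Subgroup G :=
  wv A B W (pt T W) v

/-- The subgroup generated by the four-groups of the neighbours. -/
noncomputable def vW (T W : Subgroup G) (v : CosetVertex A B) : Subgroup G :=
  ⨆ e : {e // (cosetGraph A B).Adj v e}, wW T W e.1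

theorem le_vW {v e : CosetVertex A B} (h : (cosetGraph A B).Adj v e) : wW T W e ≤ vW T W v :=
  le_iSup (fun e : {e // (cosetGraph A B).Adj v e} => wW T W e.1) ⟨e, h⟩

variable [Finite G]

namespace Mix

theorem rEl_spec (h : Mix T A B W) : rEl T W ∈ pt T W ∧ rEl T W ≠ 1 := by
  obtain ⟨c, hc1, -, hc, -⟩ := exists_gen_of_card_two h.sA.pt_card
  exact Classical.epsilon_spec (p := fun x => x ∈ pt T W ∧ x ≠ 1) ⟨c, hc.ge (mem_zpowers c), hc1⟩

theorem pt_cases (h : Mix T A B W) {x : G} (hx : x ∈ pt T W) : x = 1 ∨ x = rEl T W := by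
  obtain ⟨c, -, -, -, hc'⟩ := exists_gen_of_card_two h.sA.pt_card
  rcases hc' _ hx with e | e
  · exact Or.inl e
  · exact Or.inr (e.trans ((hc' _ h.rEl_spec.1).resolve_left h.rEl_spec.2).symm)

theorem cent_r (h : Mix T A B W) {g : G} (hg : g ∈ B) : g * rEl T W = rEl T W * g :=
  h.zB _ (h.sA.W_le_T h.rEl_spec.1.1) (h.sA.sq _ h.rEl_spec.1.1)
    (fun t ht => (mem_centralizer_iff.1 h.rEl_spec.1.2 t ht).symm) g hg

theorem B_norm_pt (h : Mix T A B W) : B ≤ normalizer (pt T W : Set G) := by
  intro g hg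
  refine LocalEvenB.mem_normalizer_of_conj_mem fun x hx => ?_
  rcases h.pt_cases hx with rfl | rfl
  · simp
  · rw [h.cent_r hg, mul_inv_cancel_right]; exact hx

theorem wW_inl (h : Mix T A B W) (x : G) :
    wW T W (Sum.inl (x : G ⧸ A) : CosetVertex A B) = W.map (MulAut.conj x).toMonoidHom := by
  obtain ⟨⟨p, hp⟩, e⟩ := QuotientGroup.mk_out_eq_mul A x
  show W.map (MulAut.conj ((x : G ⧸ A)).out).toMonoidHom = _
  rw [e, ← LocalEvenB.conjMap_conjMap, LocalEvenB.conjMap_eq_of_mem_normalizer (h.sA.hPW hp)]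

theorem wW_inr (h : Mix T A B W) (x : G) :
    wW T W (Sum.inr (x : G ⧸ B) : CosetVertex A B) = (pt T W).map (MulAut.conj x).toMonoidHom := by
  obtain ⟨⟨p, hp⟩, e⟩ := QuotientGroup.mk_out_eq_mul B x
  show (pt T W).map (MulAut.conj ((x : G ⧸ B)).out).toMonoidHom = _
  rw [e, ← LocalEvenB.conjMap_conjMap, LocalEvenB.conjMap_eq_of_mem_normalizer (h.B_norm_pt hp)]

theorem wW_smul (h : Mix T A B W) (g : G) (v : CosetVertex A B) :
    wW T W (g • v) = (wW T W v).map (MulAut.conj g).toMonoidHom := by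
  rcases v with q | q <;> induction q using QuotientGroup.induction_on with
  | H x => first
    | rw [cg_smul_inl, h.wW_inl, h.wW_inl, LocalEvenB.conjMap_conjMap]
    | rw [cg_smul_inr, h.wW_inr, h.wW_inr, LocalEvenB.conjMap_conjMap]

theorem zel_inr (h : Mix T A B W) (x : G) :
    zel A B T W (Sum.inr (x : G ⧸ B)) = x * rEl T W * x⁻¹ := by
  obtain ⟨⟨p, hp⟩, e⟩ := QuotientGroup.mk_out_eq_mul B x
  show MulAut.conj ((x : G ⧸ B)).out (rEl T W) = _
  rw [e, MulAut.conj_apply]
  show x * p * rEl T W * (x * p)⁻¹ = _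
  rw [mul_assoc x p, h.cent_r hp]
  group

theorem zel_smul (h : Mix T A B W) (g : G) (v : CosetVertex A B) :
    zel A B T W (g • v) = g * zel A B T W v * g⁻¹ := by
  rcases v with q | q <;> induction q using QuotientGroup.induction_on with
  | H x => first
    | (rw [cg_smul_inl]; show (1 : G) = g * 1 * g⁻¹; group)
    | (rw [cg_smul_inr, h.zel_inr, h.zel_inr]; group)

theorem right_of_left {v u : CosetVertex A B} (ha : (cosetGraph A B).Adj v u)
    (hv : v.isLeft = true) : u.isLeft = false := by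
  rw [isLeft_ne_of_adj ha, hv]; rfl

theorem left_of_right {v u : CosetVertex A B} (ha : (cosetGraph A B).Adj v u)
    (hv : v.isLeft = false) : u.isLeft = true := by
  rw [isLeft_ne_of_adj ha, hv]; rfl

variable {v u u' : CosetVertex A B}

theorem side (h : Mix T A B W) (ha : (cosetGraph A B).Adj v u) (hv : v.isLeft = true) :
    Side (MulAction.stabilizer G v ⊓ MulAction.stabilizer G u) (MulAction.stabilizer G v)
      (wW T W v) := by
  obtain ⟨x, ⟨rfl, rfl⟩ | ⟨rfl, rfl⟩⟩ := (cg_adj_iff _ _).1 ha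
  · rw [cg_stab_inl, cg_stab_inr, ← Subgroup.map_inf _ _ _ (MulAut.conj x).injective, h.inter,
      h.wW_inl]
    exact h.sA.map_conj x
  · simp at hv

theorem loc (h : Mix T A B W) (ha : (cosetGraph A B).Adj v u) :
    Loc (MulAction.stabilizer G v ⊓ MulAction.stabilizer G u) (MulAction.stabilizer G v) := by
  obtain ⟨x, ⟨rfl, rfl⟩ | ⟨rfl, rfl⟩⟩ := (cg_adj_iff _ _).1 ha
  · rw [cg_stab_inl, cg_stab_inr, ← Subgroup.map_inf _ _ _ (MulAut.conj x).injective, h.inter]
    exact (Loc.of_side h.sA).map_conj x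
  · rw [cg_stab_inl, cg_stab_inr, ← Subgroup.map_inf _ _ _ (MulAut.conj x).injective,
      inf_comm B A, h.inter]
    exact h.locB.map_conj x

theorem zel_mem_pt (h : Mix T A B W) (ha : (cosetGraph A B).Adj v u) (hv : v.isLeft = true) :
    zel A B T W u ∈ pt (MulAction.stabilizer G v ⊓ MulAction.stabilizer G u) (wW T W v) ∧
      zel A B T W u ≠ 1 := by
  obtain ⟨x, ⟨rfl, rfl⟩ | ⟨rfl, rfl⟩⟩ := (cg_adj_iff _ _).1 ha
  · rw [cg_stab_inl, cg_stab_inr, ← Subgroup.map_inf _ _ _ (MulAut.conj x).injective, h.inter,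
      h.wW_inl, pt_map_conj, h.zel_inr]
    exact ⟨LocalEvenB.conjMap_apply_mem h.rEl_spec.1,
      fun e => h.rEl_spec.2 (conj_eq_one_iff.1 e)⟩
  · simp at hv

theorem ptv_cases (h : Mix T A B W) (ha : (cosetGraph A B).Adj v u) (hv : v.isLeft = true) {x : G}
    (hx : x ∈ pt (MulAction.stabilizer G v ⊓ MulAction.stabilizer G u) (wW T W v)) :
    x = 1 ∨ x = zel A B T W u := by
  obtain ⟨c, -, -, -, hc'⟩ := exists_gen_of_card_two (h.side ha hv).pt_card
  rcases hc' _ hx with e | e
  · exact Or.inl e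
  · exact Or.inr (e.trans ((hc' _ (h.zel_mem_pt ha hv).1).resolve_left (h.zel_mem_pt ha hv).2).symm)

theorem zel_mem (h : Mix T A B W) (ha : (cosetGraph A B).Adj v u) (hv : v.isLeft = true) :
    zel A B T W u ∈ wW T W v := (h.zel_mem_pt ha hv).1.1

theorem zel_comm (h : Mix T A B W) {g : G} (hg : g ∈ MulAction.stabilizer G v) :
    g * zel A B T W v = zel A B T W v * g := by
  have h1 := h.zel_smul g v
  rw [MulAction.mem_stabilizer_iff.1 hg] at h1
  conv_rhs => rw [h1, inv_mul_cancel_right]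

theorem wW_right (h : Mix T A B W) (hv : v.isLeft = false) {x : G} (hx : x ∈ wW T W v) :
    x = 1 ∨ x = zel A B T W v := by
  rcases v with q | q
  · simp at hv
  induction q using QuotientGroup.induction_on with
  | H y =>
    rw [h.wW_inr] at hx
    obtain ⟨w, hw, rfl⟩ := hx
    rcases h.pt_cases hw with rfl | rfl
    · exact Or.inl (map_one _)
    · exact Or.inr (h.zel_inr y).symm

theorem noNormal_edge (h : Mix T A B W) (ha : (cosetGraph A B).Adj v u) {N : Subgroup G}
    (hN : N ≤ MulAction.stabilizer G v ⊓ MulAction.stabilizer G u)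
    (hv : MulAction.stabilizer G v ≤ normalizer (N : Set G))
    (hu : MulAction.stabilizer G u ≤ normalizer (N : Set G)) : N = ⊥ := by
  obtain ⟨x, hx⟩ := (cg_adj_iff _ _).1 ha
  have key : ∀ (hv : A.map (MulAut.conj x).toMonoidHom ≤ normalizer (N : Set G))
      (hu : B.map (MulAut.conj x).toMonoidHom ≤ normalizer (N : Set G))
      (hN : N ≤ T.map (MulAut.conj x).toMonoidHom), N = ⊥ := by
    intro hv hu hN
    have hiff : ∀ (P : Subgroup G), P.map (MulAut.conj x).toMonoidHom ≤ normalizer (N : Set G) →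
        P ≤ normalizer (N.map (MulAut.conj x⁻¹).toMonoidHom : Set G) := by
      intro P hP p hp
      have hq := hP (LocalEvenB.conjMap_apply_mem (g := x) hp)
      refine LocalEvenB.mem_normalizer_of_conjMap_le ?_
      rw [LocalEvenB.conjMap_conjMap, show p * x⁻¹ = x⁻¹ * (x * p * x⁻¹) by group,
        ← LocalEvenB.conjMap_conjMap]
      exact map_mono (LocalEvenB.conjMap_le_of_mem_normalizer hq)
    have h0 := h.noNormal (N.map (MulAut.conj x⁻¹).toMonoidHom) (by
      rintro _ ⟨n, hn, rfl⟩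
      simpa [MulAut.conj_apply] using LocalEvenB.mem_conjMap.1 (hN hn))
      (hiff A hv) (hiff B hu)
    exact (map_eq_bot_iff_of_injective N (MulAut.conj x⁻¹).injective).1 h0
  rcases hx with ⟨rfl, rfl⟩ | ⟨rfl, rfl⟩
  · rw [cg_stab_inl, cg_stab_inr] at *
    exact key hv hu (by rwa [← Subgroup.map_inf _ _ _ (MulAut.conj x).injective, h.inter] at hN)
  · rw [cg_stab_inl, cg_stab_inr] at *
    exact key hu hv (by
      rwa [← Subgroup.map_inf _ _ _ (MulAut.conj x).injective, inf_comm B A, h.inter] at hN)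

theorem rv_le_stab (h : Mix T A B W) (ha : (cosetGraph A B).Adj v u) :
    rv v ≤ MulAction.stabilizer G u := (h.loc ha).R_le_T.trans inf_le_right

theorem rv_ne (h : Mix T A B W) (ha : (cosetGraph A B).Adj v u) : rv v ≠ rv u := by
  intro he
  have h0 : rv v = ⊥ := h.noNormal_edge ha (h.loc ha).R_le_T (le_normalizer_pCoreOf 2 _)
    (by rw [he]; exact le_normalizer_pCoreOf 2 _)
  cases hv : v.isLeft
  · have hs := h.side ha.symm (left_of_right ha hv)
    have hW := hs.hWR
    rw [show pCoreOf 2 (MulAction.stabilizer G u) = ⊥ from he.symm.trans h0, le_bot_iff] at hW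
    have := hs.card_W
    rw [hW, card_bot] at this
    omega
  · have hs := h.side ha hv
    have hW := hs.hWR
    rw [show pCoreOf 2 (MulAction.stabilizer G v) = ⊥ from h0, le_bot_iff] at hW
    have := hs.card_W
    rw [hW, card_bot] at this
    omega

theorem card_rv_eq (h : Mix T A B W) (ha : (cosetGraph A B).Adj v u) :
    Nat.card (rv v) = Nat.card (rv u) := by
  have key : ∀ {R E : Subgroup G}, R ≤ E → R.relIndex E = 2 → Nat.card R * 2 = Nat.card E := by
    intro R E hle hi
    rw [← hi, ← relIndex_bot_left, ← relIndex_bot_left]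
    exact relIndex_mul_relIndex ⊥ R E bot_le hle
  have h1 := key (h.loc ha).R_le_T (h.loc ha).idxR
  have h2 := key (h.loc ha.symm).R_le_T (h.loc ha.symm).idxR
  rw [inf_comm (MulAction.stabilizer G u)] at h2
  show Nat.card (pCoreOf 2 (MulAction.stabilizer G v)) =
    Nat.card (pCoreOf 2 (MulAction.stabilizer G u))
  omega

theorem exists_rv_not_rv (h : Mix T A B W) (ha : (cosetGraph A B).Adj v u) :
    ∃ r ∈ rv v, r ∉ rv u := by
  by_contra hc
  push Not at hc
  exact h.rv_ne ha (eq_of_le_of_card_ge hc (h.card_rv_eq ha).ge)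

theorem card_nbrs (h : Mix T A B W) (ha : (cosetGraph A B).Adj v u) :
    {w | (cosetGraph A B).Adj v w}.ncard = 3 := by
  set S := MulAction.stabilizer G v
  have horb : MulAction.orbit S u = {w | (cosetGraph A B).Adj v w} := by
    ext w
    constructor
    · rintro ⟨⟨g, hg⟩, rfl⟩
      have := cg_adj_smul g ha
      rwa [MulAction.mem_stabilizer_iff.1 hg] at this
    · intro hw
      obtain ⟨g, hg, rfl⟩ := cg_transitive_nbrs v u w ha hw
      exact ⟨⟨g, hg⟩, rfl⟩
  have hst : MulAction.stabilizer S u = (S ⊓ MulAction.stabilizer G u).subgroupOf S := by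
    ext ⟨g, hg⟩
    simp [mem_subgroupOf, hg]
  rw [← horb]
  exact ((MulAction.index_stabilizer S (X := CosetVertex A B) u).symm.trans
    (congrArg Subgroup.index hst)).trans (h.loc ha).idx

theorem nbr3 (h : Mix T A B W) {x y z w : CosetVertex A B} (hx : (cosetGraph A B).Adj v x)
    (hy : (cosetGraph A B).Adj v y) (hz : (cosetGraph A B).Adj v z)
    (hw : (cosetGraph A B).Adj v w) (hxy : x ≠ y) (hxz : x ≠ z) (hyz : y ≠ z) :
    w = x ∨ w = y ∨ w = z := by
  classical
  by_contra hc
  push Not at hc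
  have h4 : ({w, x, y, z} : Finset (CosetVertex A B)).card = 4 := by
    rw [Finset.card_insert_of_notMem (by simp [hc.1, hc.2.1, hc.2.2]),
      Finset.card_insert_of_notMem (by simp [hxy, hxz]),
      Finset.card_insert_of_notMem (by simp [hyz]), Finset.card_singleton]
  have hsub : (↑({w, x, y, z} : Finset (CosetVertex A B)) : Set (CosetVertex A B)) ⊆
      {w | (cosetGraph A B).Adj v w} := by
    intro p hp
    simp only [Finset.coe_insert, Finset.coe_singleton, Set.mem_insert_iff,
      Set.mem_singleton_iff] at hp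
    rcases hp with rfl | rfl | rfl | rfl <;> assumption
  have h3 := h.card_nbrs hx
  have := Set.ncard_le_ncard hsub (Set.finite_of_ncard_ne_zero (by omega))
  rw [Set.ncard_coe_finset, h4, h3] at this
  omega

theorem exists_nbr_ne (h : Mix T A B W) (ha : (cosetGraph A B).Adj v u) (x : CosetVertex A B) :
    ∃ w, (cosetGraph A B).Adj v w ∧ w ≠ u ∧ w ≠ x := by
  classical
  by_contra hc
  push Not at hc
  have hsub : {w | (cosetGraph A B).Adj v w} ⊆ ↑({u, x} : Finset (CosetVertex A B)) := by
    intro w hw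
    by_cases e : w = u
    · simp [e]
    · simp [hc w hw e]
  have := Set.ncard_le_ncard hsub (Finset.finite_toSet _)
  rw [h.card_nbrs ha, Set.ncard_coe_finset] at this
  have := this.trans (Finset.card_le_two)
  omega

theorem mem_rv_of_fix_two (h : Mix T A B W) (ha : (cosetGraph A B).Adj v u)
    (ha' : (cosetGraph A B).Adj v u') (hne : u ≠ u') {g : G}
    (hg : g ∈ MulAction.stabilizer G v) (hu : g • u = u) (hu' : g • u' = u') : g ∈ rv v := by
  by_contra hR
  have hl := h.loc ha
  set E := MulAction.stabilizer G v ⊓ MulAction.stabilizer G u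
  set E' := MulAction.stabilizer G v ⊓ MulAction.stabilizer G u'
  have hle : E ≤ E' := by
    intro x hx
    by_cases hxR : x ∈ rv v
    · exact (h.loc ha').R_le_T hxR
    · have h1 : x * g ∈ E' := (h.loc ha').R_le_T (hl.mul_mem_R hx ⟨hg, hu⟩ hxR hR)
      have := mul_mem h1 (inv_mem (show g ∈ E' from ⟨hg, hu'⟩))
      rwa [mul_inv_cancel_right] at this
  obtain ⟨k, hk, hku⟩ := cg_transitive_nbrs v u u' ha ha'
  have hEE : E'= E.map (MulAut.conj k).toMonoidHom := by
    rw [Subgroup.map_inf _ _ _ (MulAut.conj k).injective, ← stab_smul, ← stab_smul,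
      MulAction.mem_stabilizer_iff.1 hk, hku]
  have heq : E = E' := eq_of_le_of_card_ge hle (by
    rw [hEE, card_map_of_injective (MulAut.conj k).injective])
  have hkT := hl.mem_T_of_normalizes hk (mem_normalizer_iff_map_conj_eq.2 (hEE.symm.trans heq.symm))
  exact hne ((hku.symm.trans hkT.2).symm)

/-- An element outside the core fixing a neighbour moves the other two. -/
theorem moves_of_not_rv (h : Mix T A B W) (ha : (cosetGraph A B).Adj v u)
    (ha' : (cosetGraph A B).Adj v u') (hne : u ≠ u') {g : G}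
    (hg : g ∈ MulAction.stabilizer G v) (hu : g • u = u) (hgR : g ∉ rv v) : g • u' ≠ u' :=
  fun e => hgR (h.mem_rv_of_fix_two ha ha' hne hg hu e)

/-- An element centralised by an edge group and by an element moving the edge. -/
theorem cent_of_move (h : Mix T A B W) (ha : (cosetGraph A B).Adj v u) {c t : G}
    (hc : ∀ g ∈ MulAction.stabilizer G v ⊓ MulAction.stabilizer G u, g * c = c * g)
    (ht : t ∈ MulAction.stabilizer G v) (htu : t • u ≠ u) (htc : t * c = c * t) :
    ∀ g ∈ MulAction.stabilizer G v, g * c = c * g := by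
  have hle : MulAction.stabilizer G v ⊓ MulAction.stabilizer G u ≤
      MulAction.stabilizer G v ⊓ centralizer ({c} : Set G) :=
    le_inf inf_le_left fun g hg => mem_centralizer_singleton_iff.2 (hc g hg)
  have heq := (h.loc ha).eq_P_of_lt hle inf_le_left
    (fun hh => htu (hh ⟨ht, mem_centralizer_singleton_iff.2 htc⟩).2)
  exact fun g hg => mem_centralizer_singleton_iff.1 (heq.ge hg).2

theorem norm_of_move (h : Mix T A B W) (ha : (cosetGraph A B).Adj v u) {N : Subgroup G}
    (hc : MulAction.stabilizer G v ⊓ MulAction.stabilizer G u ≤ normalizer (N : Set G))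
    {t : G} (ht : t ∈ MulAction.stabilizer G v) (htu : t • u ≠ u)
    (htN : t ∈ normalizer (N : Set G)) : MulAction.stabilizer G v ≤ normalizer (N : Set G) := by
  have heq := (h.loc ha).eq_P_of_lt
    (H := MulAction.stabilizer G v ⊓ normalizer (N : Set G)) (le_inf inf_le_left hc) inf_le_left
    (fun hh => htu (hh ⟨ht, htN⟩).2)
  exact inf_eq_left.1 heq

theorem kill (h : Mix T A B W) (ha : (cosetGraph A B).Adj v u) {c : G}
    (hcE : c ∈ MulAction.stabilizer G v ⊓ MulAction.stabilizer G u)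
    (hcv : ∀ g ∈ MulAction.stabilizer G v, g * c = c * g)
    (hcu : ∀ g ∈ MulAction.stabilizer G u, g * c = c * g) : c = 1 := by
  have hcent : ∀ K : Subgroup G, (∀ g ∈ K, g * c = c * g) →
      K ≤ normalizer (zpowers c : Set G) := by
    intro K hK
    refine le_trans (fun g hg => ?_) (centralizer_le_normalizer _)
    refine mem_centralizer_iff.2 fun x hx => ?_
    obtain ⟨i, rfl⟩ := mem_zpowers_iff.1 hx
    exact ((show Commute g c from hK g hg).zpow_right i).symm.eq
  exact zpowers_eq_bot.1 (h.noNormal_edge ha (zpowers_le.2 hcE) (hcent _ hcv) (hcent _ hcu))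

/-- An involution centralised by the stabiliser of an active vertex and lying next to it is trivial. -/
theorem z_kill (h : Mix T A B W) (ha : (cosetGraph A B).Adj v u) (hv : v.isLeft = true) {c : G}
    (hcE : c ∈ MulAction.stabilizer G v ⊓ MulAction.stabilizer G u) (hcc : c * c = 1)
    (hcv : ∀ g ∈ MulAction.stabilizer G v, g * c = c * g) : c = 1 := by
  refine h.kill ha hcE hcv ?_
  obtain ⟨x, ⟨rfl, rfl⟩ | ⟨rfl, rfl⟩⟩ := (cg_adj_iff _ _).1 ha
  · rw [cg_stab_inl, cg_stab_inr] at *
    rw [← Subgroup.map_inf _ _ _ (MulAut.conj x).injective, h.inter] at hcE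
    obtain ⟨z, hz, rfl⟩ := hcE
    have hzz : z * z = 1 := (MulAut.conj x).injective (by
      rw [map_mul, map_one]; exact hcc)
    have hzA : ∀ g ∈ A, g * z = z * g := fun g hg => (MulAut.conj x).injective (by
      rw [map_mul, map_mul]; exact hcv _ ⟨g, hg, rfl⟩)
    rintro _ ⟨g, hg, rfl⟩
    have := congrArg (MulAut.conj x)
      (h.zB z hz hzz (fun t ht => (hzA t (h.sA.hTP ht)).symm) g hg)
    rw [map_mul, map_mul] at this
    exact this
  · simp at hv

theorem zel_inj (h : Mix T A B W) (ha : (cosetGraph A B).Adj v u)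
    (ha' : (cosetGraph A B).Adj v u') (hv : v.isLeft = true)
    (he : zel A B T W u = zel A B T W u') : u = u' := by
  obtain ⟨g, hg, hgu⟩ := cg_transitive_nbrs v u u' ha ha'
  have h1 := h.zel_smul g u
  rw [hgu, ← he] at h1
  have := (h.side ha hv).mem_T_of_fix hg (by
    refine le_antisymm ?_ fun c hc => ?_
    · rintro _ ⟨c, hc, rfl⟩
      rcases h.ptv_cases ha hv hc with rfl | rfl
      · rw [map_one]; exact one_mem _
      · show g * zel A B T W u * g⁻¹ ∈ _
        rw [← h1]; exact hc
    · rcases h.ptv_cases ha hv hc with rfl | rfl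
      · exact one_mem _
      · exact ⟨_, hc, h1.symm⟩)
  exact (this.2 : g • u = u).symm.trans hgu

theorem smul_eq_of_comm (h : Mix T A B W) (ha : (cosetGraph A B).Adj v u) (hv : v.isLeft = true)
    {g : G} (hg : g ∈ MulAction.stabilizer G v)
    (hc : g * zel A B T W u = zel A B T W u * g) : g • u = u := by
  have h1 := h.zel_smul g u
  rw [hc, mul_inv_cancel_right] at h1
  have ha' : (cosetGraph A B).Adj v (g • u) := by
    have := cg_adj_smul g ha
    rwa [MulAction.mem_stabilizer_iff.1 hg] at this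
  exact h.zel_inj ha' ha hv h1

/-- The elements of the four-group in terms of two points. -/
theorem w_cases (h : Mix T A B W) (ha : (cosetGraph A B).Adj v u)
    (ha' : (cosetGraph A B).Adj v u') (hv : v.isLeft = true) (hne : u ≠ u') {w : G}
    (hw : w ∈ wW T W v) :
    w = 1 ∨ w = zel A B T W u ∨ w = zel A B T W u' ∨ w = zel A B T W u * zel A B T W u' := by
  have hs := h.side ha hv
  have hn : zel A B T W u' ∉ pt (MulAction.stabilizer G v ⊓ MulAction.stabilizer G u)
      (wW T W v) := by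
    intro hh
    rcases h.ptv_cases ha hv hh with e | e
    · exact (h.zel_mem_pt ha' hv).2 e
    · exact hne (h.zel_inj ha ha' hv e.symm)
  have hz' := h.zel_mem ha' hv
  rcases hs.pt_cases hz' hn hw with hp | hp
  · rcases h.ptv_cases ha hv hp with e | e
    · exact Or.inl e
    · exact Or.inr (Or.inl e)
  · rcases h.ptv_cases ha hv hp with e | e
    · refine Or.inr (Or.inr (Or.inl ?_))
      rw [eq_inv_of_mul_eq_one_left e, inv_eq_of_mul_eq_one_right (hs.sq _ hz')]
    · refine Or.inr (Or.inr (Or.inr ?_))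
      rw [← e, mul_assoc, hs.sq _ hz', mul_one]

theorem third (h : Mix T A B W) {x : CosetVertex A B} (ha : (cosetGraph A B).Adj v u)
    (ha' : (cosetGraph A B).Adj v u') (hx : (cosetGraph A B).Adj v x) (hv : v.isLeft = true)
    (hne : u ≠ u') (hxu : x ≠ u) (hxu' : x ≠ u') :
    zel A B T W x = zel A B T W u * zel A B T W u' := by
  rcases h.w_cases ha ha' hv hne (h.zel_mem hx hv) with e | e | e | e
  · exact absurd e (h.zel_mem_pt hx hv).2
  · exact absurd (h.zel_inj hx ha hv e) hxu
  · exact absurd (h.zel_inj hx ha' hv e) hxu'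
  · exact e

theorem comm_cases (h : Mix T A B W) (ha : (cosetGraph A B).Adj v u) (hv : v.isLeft = true)
    {g w : G} (hg : g ∈ MulAction.stabilizer G v) (hgu : g ∈ MulAction.stabilizer G u)
    (hw : w ∈ wW T W v) : g * w * g⁻¹ = w ∨ g * w * g⁻¹ = zel A B T W u * w := by
  rcases h.ptv_cases ha hv ((h.side ha hv).comm_mem_pt ⟨hg, hgu⟩ hw) with e | e
  · exact Or.inl (mul_inv_eq_one.1 e)
  · exact Or.inr (by rw [← e, inv_mul_cancel_right])

theorem mem_rv (h : Mix T A B W) (ha : (cosetGraph A B).Adj v u) (hv : v.isLeft = true) {g : G}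
    (hg : g ∈ MulAction.stabilizer G v) (hc : ∀ w ∈ wW T W v, w * g = g * w) : g ∈ rv v :=
  (h.side ha hv).mem_R hg hc

/-- Neighbouring active vertices of an inactive one have different four-groups. -/
theorem wW_ne (h : Mix T A B W) (hv : v.isLeft = false) (ha : (cosetGraph A B).Adj v u)
    (ha' : (cosetGraph A B).Adj v u') (hne : u ≠ u') : wW T W u ≠ wW T W u' := by
  intro he
  have hs := h.side ha.symm (left_of_right ha hv)
  have hs' := h.side ha'.symm (left_of_right ha' hv)
  obtain ⟨t, ht, htR⟩ := (h.loc ha').exists_T_not_R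
  have hmove := h.moves_of_not_rv ha' ha (Ne.symm hne) ht.1 ht.2 htR
  have hn : MulAction.stabilizer G v ≤ normalizer (wW T W u : Set G) :=
    h.norm_of_move ha (inf_le_right.trans hs.hPW) ht.1 hmove (he ▸ hs'.hPW ht.2)
  have h0 := h.noNormal_edge ha.symm hs.W_le_T hs.hPW hn
  have := hs.card_W
  rw [h0, card_bot] at this
  omega

theorem vW_smul (h : Mix T A B W) (g : G) (v : CosetVertex A B) :
    (vW T W v).map (MulAut.conj g).toMonoidHom = vW T W (g • v) := by
  have key : ∀ (g : G) (v : CosetVertex A B),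
      (vW T W v).map (MulAut.conj g).toMonoidHom ≤ vW T W (g • v) := by
    intro g v
    rw [vW, Subgroup.map_iSup]
    refine iSup_le fun e => ?_
    rw [← h.wW_smul]
    exact le_vW (cg_adj_smul g e.2)
  refine le_antisymm (key g v) ?_
  have h1 := map_mono (f := (MulAut.conj g).toMonoidHom) (key g⁻¹ (g • v))
  rwa [inv_smul_smul, LocalEvenB.conjMap_conjMap, mul_inv_cancel,
    show (MulAut.conj (1 : G)).toMonoidHom = MonoidHom.id G by ext; simp, Subgroup.map_id] at h1

theorem stab_le_normalizer_vW (h : Mix T A B W) (v : CosetVertex A B) :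
    MulAction.stabilizer G v ≤ normalizer (vW T W v : Set G) := fun g hg => by
  exact mem_normalizer_iff_map_conj_eq.2
    ((h.vW_smul g v).trans (congrArg (vW T W) (MulAction.mem_stabilizer_iff.1 hg)))

theorem exists_nbr (v : CosetVertex A B) : ∃ u, (cosetGraph A B).Adj v u := by
  rcases v with q | q <;> induction q using QuotientGroup.induction_on with
  | H x => first
    | exact ⟨_, cg_adj_inl_inr x⟩
    | exact ⟨_, (cg_adj_inl_inr x).symm⟩

theorem edge_trans {v' u' : CosetVertex A B} (ha : (cosetGraph A B).Adj v u)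
    (ha' : (cosetGraph A B).Adj v' u') (hty : v'.isLeft = v.isLeft) :
    ∃ g : G, g • v = v' ∧ g • u = u' := by
  obtain ⟨x, ⟨rfl, rfl⟩ | ⟨rfl, rfl⟩⟩ := (cg_adj_iff _ _).1 ha <;>
    obtain ⟨y, ⟨rfl, rfl⟩ | ⟨rfl, rfl⟩⟩ := (cg_adj_iff _ _).1 ha'
  · exact ⟨y * x⁻¹, by simp [cg_smul_inl], by simp [cg_smul_inr]⟩
  · simp at hty
  · simp at hty
  · exact ⟨y * x⁻¹, by simp [cg_smul_inr], by simp [cg_smul_inl]⟩

end Mix

end Cfsg.Agent.LocalEvenA.Gold
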