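import Cfsg.Agent.Lib.LocalEvenA.Gold.Pairs
import Cfsg.Agent.Lib.LocalEvenA.Gold.OddLong

/-!
Critical distance three.
-/

set_option autoImplicit false

namespace Cfsg.Agent.LocalEvenA.Gold

open Subgroup Cfsg Agent.LocalEvenA Cfsg.Agent.LocalEvenB.ZN

variable {G : Type*} [Group G] {T A B W : Subgroup G}

/-- The common part of the kernels at the neighbours of a vertex. -/
noncomputable def lW (v : CosetVertex A B) : Subgroup G :=
  ⨅ e : {e // (cosetGraph A B).Adj v e}, kW e.1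

theorem mem_lW {v : CosetVertex A B} {g : G} :
    g ∈ lW v ↔ ∀ e, (cosetGraph A B).Adj v e → g ∈ kW e := by
  simp only [lW, mem_iInf]
  exact ⟨fun h e he => h ⟨e, he⟩, fun h e => h e.1 e.2⟩

theorem mem_sup_comm {H K : Subgroup G} (hc : ∀ a ∈ H, ∀ b ∈ K, a * b = b * a) {x : G}
    (hx : x ∈ H ⊔ K) : ∃ a ∈ H, ∃ b ∈ K, x = a * b := by
  let S : Subgroup G :=
    { carrier := {q | ∃ a ∈ H, ∃ b ∈ K, q = a * b}
      one_mem' := ⟨1, one_mem _, 1, one_mem _, (one_mul 1).symm⟩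
      mul_mem' := by
        rintro _ _ ⟨a, ha, b, hb, rfl⟩ ⟨a', ha', b', hb', rfl⟩
        refine ⟨a * a', mul_mem ha ha', b * b', mul_mem hb hb', ?_⟩
        rw [mul_assoc, ← mul_assoc b, ← hc a' ha' b hb]
        group
      inv_mem' := by
        rintro _ ⟨a, ha, b, hb, rfl⟩
        exact ⟨a⁻¹, inv_mem ha, b⁻¹, inv_mem hb, by
          rw [mul_inv_rev, ← hc _ (inv_mem ha) _ (inv_mem hb)]⟩ }
  exact (sup_le (c := S) (fun a ha => ⟨a, ha, 1, one_mem _, (mul_one a).symm⟩)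
    (fun b hb => ⟨1, one_mem _, b, hb, (one_mul b).symm⟩)) hx

theorem card_le_two_mul {H K : Subgroup G} [Finite H]
    (h : ∀ a ∈ H, ∀ b ∈ H, a ∉ K → b ∉ K → a * b ∈ K) :
    Nat.card H ≤ 2 * Nat.card (H ⊓ K : Subgroup G) := by
  classical
  by_cases hH : H ≤ K
  · rw [inf_eq_left.2 hH]; omega
  obtain ⟨m, hm, hmK⟩ := SetLike.not_le_iff_exists.1 hH
  haveI : Finite (H ⊓ K : Subgroup G) := Finite.of_injective (Subgroup.inclusion inf_le_left)
    (Subgroup.inclusion_injective _)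
  let f : H → Bool × (H ⊓ K : Subgroup G) := fun x =>
    if hx : (x : G) ∈ K then (false, ⟨x, x.2, hx⟩)
    else (true, ⟨m * x, mul_mem hm x.2, h m hm x x.2 hmK hx⟩)
  have hf : Function.Injective f := by
    intro x y e
    simp only [f] at e
    split_ifs at e with hx hy hy <;>
      simp only [Prod.mk.injEq, reduceCtorEq, false_and, true_and] at e
    · exact Subtype.ext (congrArg Subtype.val e :)
    · exact Subtype.ext (mul_left_cancel (congrArg Subtype.val e :))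
  have := Nat.card_le_card_of_injective f hf
  rw [Nat.card_prod] at this
  simpa using this

variable [Finite G] {f : ℕ → CosetVertex A B}

namespace Mix

theorem lW_smul {v : CosetVertex A B} {g x : G} (hx : x ∈ lW v) : g * x * g⁻¹ ∈ lW (g • v) := by
  refine mem_lW.2 fun e he => ?_
  have he' : (cosetGraph A B).Adj v (g⁻¹ • e) := by simpa using cg_adj_smul g⁻¹ he
  have := kW_smul (g := g) (mem_lW.1 hx _ he')
  rwa [smul_inv_smul] at this

theorem lW_le (h : Mix T A B W) {v c : CosetVertex A B} (hc : (cosetGraph A B).Adj c v) :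
    lW c ≤ kW v := fun _ hx => mem_lW.1 hx v hc

/-- An element fixing a walk beyond `v` moves its ends. -/
theorem var_zero (h : Mix T A B W) (c : OddCrit A B T W 3 f) {x : CosetVertex A B}
    (hx : (cosetGraph A B).Adj (f 1) x) (hx2 : x ≠ f 2) : ¬ wW T W x ≤ rv (f 3) := by
  by_cases he : x = f 0
  · exact he ▸ c.crit
  have hnb := c.nb
  obtain ⟨γ, hγ, hne, -⟩ := h.exists_nbr_ne (hnb.1 2 (by omega)).symm (f 2)
  have cR := c.rev h hγ hne
  obtain ⟨u, hu, hun⟩ := cR.exists_s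
  rw [mir_zero] at hu
  rw [mir_succ 3 _ γ (by omega)] at hun
  change u ∉ rv (f 1) at hun
  have hufix : ∀ i, i ≤ 2 → u • f (3 - i) = f (3 - i) := by
    intro i hi
    have := h.w_fix c.below (by omega) cR.nb cR.start (by rw [mir_zero]; exact hu)
      (i := i + 1) (by omega)
    rwa [mir_succ 3 f γ (by omega), show 3 + 1 - (i + 1) = 3 - i by omega] at this
  have h12 := hnb.1 1 (by omega)
  have h10 := (hnb.1 0 (by omega)).symm
  have hm := h.moves_of_not_rv h12 h10 (hnb.2 0 (by omega)).symm (hufix 2 le_rfl)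
    (hufix 1 (by omega)) hun
  have hadj : (cosetGraph A B).Adj (f 1) (u • f 0) := by
    have := cg_adj_smul u h10
    rwa [show u • f 1 = f 1 from hufix 2 le_rfl] at this
  rcases h.nbr3 h12 h10 hx hadj (hnb.2 0 (by omega)).symm (Ne.symm hx2) (Ne.symm he) with e | e | e
  · exact absurd (MulAction.injective u (e.trans (hufix 1 (by omega)).symm)) (hnb.2 0 (by omega))
  · exact absurd e hm
  · have := (h.crit_smul u).2 c.crit
    show ¬ _
    rw [← e, ← show u • f 3 = f 3 from hufix 0 (by omega)]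
    exact this

theorem crit_three (h : Mix T A B W) (c : OddCrit A B T W 3 f) {k : ℕ → CosetVertex A B}
    (hk : NB 3 k) (hk0 : (k 0).isLeft = true) : OddCrit A B T W 3 k := by
  refine ⟨c.below, c.odd, c.three, hk, hk0, ?_⟩
  have hnb := c.nb
  obtain ⟨g, g1, g2⟩ := edge_trans (hnb.1 1 (by omega)) (hk.1 1 (by omega))
    (by rw [hk.right hk0 (i := 1) (by omega) rfl, hnb.right c.start (i := 1) (by omega) rfl])
  have cs : ∀ (g : G) (f : ℕ → CosetVertex A B), OddCrit A B T W 3 f →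
      OddCrit A B T W 3 (fun i => g • f i) := fun g f c => ⟨c.below, c.odd, c.three, c.nb.smul g,
    by
      show (g • f 0).isLeft = true
      rcases hf : f 0 with q | q
      · rfl
      · have := c.start; rw [hf] at this; simp at this,
    (h.crit_smul g).2 c.crit⟩
  have c' := cs g f c
  have fin : ∀ f' : ℕ → CosetVertex A B, OddCrit A B T W 3 f' → f' 1 = k 1 → f' 2 = k 2 →
      f' 3 = k 3 → Crit T W 3 k := by
    intro f' cf e1 e2 e3
    have := h.var_zero cf (x := k 0) (by rw [e1]; exact (hk.1 0 (by omega)).symm)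
      (by rw [e2]; exact hk.2 0 (by omega))
    rwa [e3] at this
  by_cases e3 : g • f 3 = k 3
  · exact fin _ c' g1 g2 e3
  have h21 := (hk.1 1 (by omega)).symm
  have h23 := hk.1 2 (by omega)
  obtain ⟨t, ht, htR⟩ := (h.loc h21).exists_T_not_R
  have hadj : (cosetGraph A B).Adj (k 2) (g • f 3) := by
    rw [← g2]; exact cg_adj_smul g (hnb.1 2 (by omega))
  have hne1 : k 1 ≠ g • f 3 := by
    rw [← g1]; exact fun e => hnb.2 1 (by omega) (MulAction.injective g e)
  have htm := h.moves_of_not_rv h21 hadj hne1 ht.1 ht.2 htR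
  have hadj' : (cosetGraph A B).Adj (k 2) (t • g • f 3) := by
    have := cg_adj_smul t hadj
    rwa [show t • k 2 = k 2 from ht.1] at this
  refine fin _ (cs t _ c') ?_ ?_ ?_
  · show t • g • f 1 = k 1
    rw [g1]; exact ht.2
  · show t • g • f 2 = k 2
    rw [g2]; exact ht.1
  · rcases h.nbr3 h21 hadj h23 hadj' hne1 (hk.2 1 (by omega)) e3 with e | e | e
    · exact absurd (MulAction.injective t (e.trans ht.2.symm)) (Ne.symm hne1)
    · exact absurd e htm
    · exact e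

end Mix

/-- The configuration of critical distance three. -/
structure Thr (A B T W : Subgroup G) : Prop where
  mix : Mix T A B W
  below : BelowA A B T W 3
  crit : ∀ k : ℕ → CosetVertex A B, NB 3 k → (k 0).isLeft = true → OddCrit A B T W 3 k
  small : Small A B T W

theorem Thr.of (h : Mix T A B W) (c : OddCrit A B T W 3 f) : Thr A B T W := by
  refine ⟨h, c.below, fun k hk hk0 => h.crit_three c hk hk0, ?_⟩
  have hnb := c.nb
  obtain ⟨γ, hγ, hne, -⟩ := h.exists_nbr_ne (hnb.1 2 (by omega)).symm (f 2)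
  have cR := c.rev h hγ hne
  obtain ⟨u, hu, hun⟩ := cR.exists_s
  rw [mir_zero] at hu
  rw [mir_succ 3 _ γ (by omega)] at hun
  obtain ⟨s, hs, hsn⟩ := c.exists_s
  obtain ⟨h1, h2⟩ := h.pc_comm c hγ hne hs hsn hu hun
  exact h.small_of_one c.below le_rfl (hnb.right c.start (i := 1) (by omega) rfl)
    (hnb.1 1 (by omega)) h1 (h.dl c.below le_rfl (hnb.left c.start (i := 2) (by omega) rfl)
      (hnb.1 1 (by omega)).symm (hnb.1 2 (by omega)) (hnb.2 1 (by omega)) h1 h2)

namespace Thr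

variable {v v' v'' c γ γ' a : CosetVertex A B}

theorem exists_out (d : Thr A B T W) (hv : v.isLeft = false) (ha : (cosetGraph A B).Adj v γ) :
    ∃ x, Out T W v γ x := by
  have hl := Mix.left_of_right ha hv
  obtain ⟨w, hw, hwv, -⟩ := d.mix.exists_nbr_ne ha.symm v
  exact ⟨_, d.mix.zel_mem hw hl, (d.mix.zel_mem_pt hw hl).2,
    fun e => hwv (d.mix.zel_inj hw ha.symm hl e)⟩

theorem out_mul (d : Thr A B T W) (hv : v.isLeft = false) (hc : (cosetGraph A B).Adj v c)
    (h1 : (cosetGraph A B).Adj v γ) (h2 : (cosetGraph A B).Adj v γ') (n1 : γ ≠ c) (n2 : γ' ≠ c)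
    {x y : G} (hx : Out T W v γ x) (hy : Out T W v γ' y) : x * y ∈ wW T W c := by
  by_cases e : γ = γ'
  · subst e
    have hl := Mix.left_of_right h1 hv
    rcases d.mix.out_unique hv h1 hx hy with rfl | rfl
    · rw [(d.mix.side h1.symm hl).sq _ hx.1]; exact one_mem _
    · rw [← mul_assoc, (d.mix.side h1.symm hl).sq _ hx.1, one_mul]
      exact d.mix.zel_mem hc.symm (Mix.left_of_right hc hv)
  · exact d.small v c _ hv hc ⟨γ, γ', h1, h2, n1, n2, e, x, y, hx, hy, rfl⟩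

theorem v_cases (d : Thr A B T W) (hv : v.isLeft = false) (hc : (cosetGraph A B).Adj v c)
    (h1 : (cosetGraph A B).Adj v γ) (n1 : γ ≠ c) {s : G} (hs : Out T W v γ s) {q : G}
    (hq : q ∈ vW T W v) : q ∈ wW T W c ∨ q * s ∈ wW T W c := by
  have hcl := Mix.left_of_right hc hv
  have hsV : s ∈ vW T W v := le_vW h1 hs.1
  have hcV : wW T W c ≤ vW T W v := le_vW hc
  have hcomm : ∀ x ∈ vW T W v, ∀ y ∈ vW T W v, x * y = y * x := fun x hx y hy =>
    d.mix.vW_commute d.below le_rfl hv hx hy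
  have hss : s * s = 1 := d.mix.vW_sq d.below le_rfl hv hsV
  let S : Subgroup G :=
    { carrier := {q | q ∈ vW T W v ∧ (q ∈ wW T W c ∨ q * s ∈ wW T W c)}
      one_mem' := ⟨one_mem _, Or.inl (one_mem _)⟩
      mul_mem' := fun {x y} hx hy => ⟨mul_mem hx.1 hy.1, by
        rcases hx.2 with e | e <;> rcases hy.2 with e' | e'
        · exact Or.inl (mul_mem e e')
        · exact Or.inr (by rw [mul_assoc]; exact mul_mem e e')
        · exact Or.inr (by
            rw [mul_assoc, hcomm y hy.1 s hsV, ← mul_assoc]; exact mul_mem e e')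
        · refine Or.inl ?_
          have := mul_mem e e'
          rwa [show x * s * (y * s) = x * (s * y) * s by group, ← hcomm y hy.1 s hsV,
            show x * (y * s) * s = x * y * (s * s) by group, hss, mul_one] at this⟩
      inv_mem' := fun {x} hx => ⟨inv_mem hx.1, by
        rw [inv_eq_of_mul_eq_one_right (d.mix.vW_sq d.below le_rfl hv hx.1)]; exact hx.2⟩ }
  have hle : vW T W v ≤ S := by
    refine iSup_le fun e x hx => ⟨le_vW e.2 hx, ?_⟩
    by_cases he : e.1 = c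
    · exact Or.inl (he ▸ hx)
    by_cases h0 : x = 1
    · exact Or.inl (h0 ▸ one_mem _)
    by_cases hz : x = zel A B T W v
    · exact Or.inl (hz ▸ d.mix.zel_mem hc.symm hcl)
    exact Or.inr (d.out_mul hv hc e.2 h1 he n1 ⟨hx, h0, hz⟩ hs)
  exact (hle hq).2

theorem vW_le_kW (d : Thr A B T W) (hv : v.isLeft = false) : vW T W v ≤ kW v := by
  refine iSup_le fun e x hx => mem_kW.2 ⟨?_, fun e' he' => ?_⟩
  · exact d.below 1 (by omega) _ _ (Mix.left_of_right e.2 hv) (Near.one e.2.symm) hx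
  · exact d.below 2 (by omega) _ _ (Mix.left_of_right e.2 hv)
      (Near.cons e.2.symm (Near.one he')) hx

theorem wW_le_lW (d : Thr A B T W) (hc : c.isLeft = true) : wW T W c ≤ lW c := fun x hx =>
  mem_lW.2 fun e he => d.vW_le_kW (Mix.right_of_left he hc) (le_vW he.symm hx)

theorem kW_comm (d : Thr A B T W) (hv : v.isLeft = false) {g : G} (hg : g ∈ kW v) {q : G}
    (hq : q ∈ vW T W v) : q * g = g * q := by
  have hle : vW T W v ≤ centralizer ({g} : Set G) := iSup_le fun e w hw =>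
    mem_centralizer_singleton_iff.2
      ((d.mix.side e.2.symm (Mix.left_of_right e.2 hv)).R_commute ((mem_kW.1 hg).2 _ e.2) hw)
  exact mem_centralizer_singleton_iff.1 (hle hq)

theorem kW_of_cent (d : Thr A B T W) (hv : v.isLeft = false) {g : G}
    (hg : g ∈ MulAction.stabilizer G v)
    (hc : ∀ e, (cosetGraph A B).Adj v e → ∀ w ∈ wW T W e, w * g = g * w) : g ∈ kW v := by
  have hfix : ∀ e, (cosetGraph A B).Adj v e → g • e = e := by
    intro e he
    by_contra hne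
    have he' : (cosetGraph A B).Adj v (g • e) := by
      have := cg_adj_smul g he
      rwa [MulAction.mem_stabilizer_iff.1 hg] at this
    refine d.mix.wW_ne hv he' he hne ?_
    rw [d.mix.wW_smul]
    refine le_antisymm ?_ fun w hw => ⟨w, hw, ?_⟩
    · rintro _ ⟨w, hw, rfl⟩
      show g * w * g⁻¹ ∈ _
      rw [← hc e he w hw, mul_inv_cancel_right]; exact hw
    · show g * w * g⁻¹ = w
      rw [← hc e he w hw, mul_inv_cancel_right]
  obtain ⟨x, hx⟩ := Mix.exists_nbr v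
  obtain ⟨y, hy, hyx, -⟩ := d.mix.exists_nbr_ne hx x
  refine mem_kW.2 ⟨d.mix.mem_rv_of_fix_two hx hy (Ne.symm hyx) hg (hfix x hx) (hfix y hy),
    fun e he => ?_⟩
  exact d.mix.mem_rv he.symm (Mix.left_of_right he hv) (hfix e he) (hc e he)

/-- The basic commutator. -/
theorem comm_out (d : Thr A B T W) (hcl : c.isLeft = true) (hv : (cosetGraph A B).Adj c v)
    (hv' : (cosetGraph A B).Adj c v') (hne : v ≠ v') (hγ : (cosetGraph A B).Adj v γ)
    (hγ' : (cosetGraph A B).Adj v' γ') (n : γ ≠ c) (n' : γ' ≠ c) {s u : G}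
    (hs : Out T W v γ s) (hu : Out T W v' γ' u) :
    s ∉ rv v' ∧ u ∉ rv v ∧
      s * u * s⁻¹ * u⁻¹ = zel A B T W v * zel A B T W v' := by
  have hvr := Mix.right_of_left hv hcl
  have hv'r := Mix.right_of_left hv' hcl
  have mk : ∀ {v v' γ : CosetVertex A B}, (cosetGraph A B).Adj c v → (cosetGraph A B).Adj c v' →
      v ≠ v' → (cosetGraph A B).Adj v γ → γ ≠ c → v.isLeft = false →
      OddCrit A B T W 3 (cons γ (cons v (cons c (fun _ => v')))) := by
    intro v v' γ hv hv' hne hγ n hvr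
    have a0 : NB 0 (fun _ : ℕ => v') := ⟨fun i hi => by omega, fun i hi => by omega⟩
    exact d.crit _ (((a0.cons hv' (Or.inl rfl)).cons hv.symm (Or.inr hne)).cons hγ.symm
      (Or.inr n)) (Mix.left_of_right hγ hvr)
  have ck := mk hv hv' hne hγ n hvr
  have ck' := mk hv' hv (Ne.symm hne) hγ' n' hv'r
  have hsn : s ∉ rv v' := fun e => by
    rcases (ck.mem_iff d.mix (w := s) hs.1).1 e with e' | e'
    · exact hs.2.1 e'
    · exact hs.2.2 e'
  have hun : u ∉ rv v := fun e => by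
    rcases (ck'.mem_iff d.mix (w := u) hu.1).1 e with e' | e'
    · exact hu.2.1 e'
    · exact hu.2.2 e'
  refine ⟨hsn, hun, ?_⟩
  obtain ⟨h1, h2⟩ := d.mix.pc_comm ck (γ := γ') hγ' n' hs.1 hsn hu.1 hun
  change PC T W v c _ at h1
  change PC T W v' c _ at h2
  have notz : ∀ {v : CosetVertex A B} {p}, v.isLeft = false → PC T W v c p →
      p ≠ zel A B T W v := by
    intro v p hvr hp he
    obtain ⟨a, a', k1, k2, k3, k4, k5, x, y, hx, hy, rfl⟩ := hp
    have hl := Mix.left_of_right k1 hvr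
    refine d.mix.pc_ne_one hvr (p := x * zel A B T W v * y) ⟨a, a', k1, k2, k3, k4, k5,
      x * zel A B T W v, y, ⟨mul_mem hx.1 (d.mix.zel_mem k1.symm hl), fun e => hx.2.2 ?_,
        fun e => hx.2.1 (mul_eq_right.1 e)⟩, hy, rfl⟩ ?_
    · rw [eq_inv_of_mul_eq_one_left e, d.mix.inv_of_w hl (d.mix.zel_mem k1.symm hl)]
    · rw [mul_assoc, d.mix.vW_commute d.below le_rfl hvr
        (le_vW k1 (d.mix.zel_mem k1.symm hl)) (le_vW k2 hy.1), ← mul_assoc, he,
        (d.mix.side k1.symm hl).sq _ (d.mix.zel_mem k1.symm hl)]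
  have hmem := d.small v c _ hvr hv.symm h1
  rcases d.mix.w_cases hv hv' hcl hne hmem with e | e | e | e
  · exact absurd e (d.mix.pc_ne_one hvr h1)
  · exact absurd e (notz hvr h1)
  · exact absurd e (notz hv'r h2)
  · exact e

theorem norm_c (d : Thr A B T W) (hv : (cosetGraph A B).Adj c v)
    (hv' : (cosetGraph A B).Adj c v') (hne : v ≠ v') {N : Subgroup G}
    (h1 : MulAction.stabilizer G v ≤ normalizer (N : Set G))
    (h2 : MulAction.stabilizer G v' ≤ normalizer (N : Set G)) :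
    MulAction.stabilizer G c ≤ normalizer (N : Set G) := by
  obtain ⟨t, ht, htR⟩ := (d.mix.loc hv').exists_T_not_R
  exact d.mix.norm_of_move hv (inf_le_right.trans h1) ht.1
    (d.mix.moves_of_not_rv hv' hv (Ne.symm hne) ht.1 ht.2 htR) (h2 ht.2)

/-- An element of the core of `v` outside the core of `c`, and an element moving `c`. -/
theorem movers (d : Thr A B T W) (hv : v.isLeft = false) (hc : (cosetGraph A B).Adj v c)
    (ha : (cosetGraph A B).Adj v a) (hne : a ≠ c) :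
    ∃ v₁ v₂ γ₁ γ₂ u₁ u₂, (cosetGraph A B).Adj a v₁ ∧ (cosetGraph A B).Adj a v₂ ∧
      (cosetGraph A B).Adj v₁ γ₁ ∧ (cosetGraph A B).Adj v₂ γ₂ ∧ γ₁ ≠ a ∧ γ₂ ≠ a ∧
      Out T W v₁ γ₁ u₁ ∧ Out T W v₂ γ₂ u₂ ∧ u₁ ∈ rv a ∧ u₂ ∈ rv a ∧
      u₁ * u₂ ∈ rv v ∧ u₁ * u₂ ∉ rv c ∧ u₁ • v = v ∧ u₁ • c ≠ c := by
  have hal := Mix.left_of_right ha hv
  have hcl := Mix.left_of_right hc hv
  obtain ⟨v₁, hv₁, n1, -⟩ := d.mix.exists_nbr_ne ha.symm v
  obtain ⟨v₂, hv₂, n2, n21⟩ := d.mix.exists_nbr_ne ha.symm v₁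
  have hr1 := Mix.right_of_left hv₁ hal
  have hr2 := Mix.right_of_left hv₂ hal
  obtain ⟨γ₁, hγ₁, g1, -⟩ := d.mix.exists_nbr_ne hv₁.symm a
  obtain ⟨γ₂, hγ₂, g2, -⟩ := d.mix.exists_nbr_ne hv₂.symm a
  obtain ⟨u₁, hu₁⟩ := d.exists_out hr1 hγ₁
  obtain ⟨u₂, hu₂⟩ := d.exists_out hr2 hγ₂
  obtain ⟨s, hs⟩ := d.exists_out hv hc
  obtain ⟨-, k1, e1⟩ := d.comm_out hal ha.symm hv₁ (Ne.symm n1) hc hγ₁ (Ne.symm hne) g1 hs hu₁
  obtain ⟨-, k2, e2⟩ := d.comm_out hal ha.symm hv₂ (Ne.symm n2) hc hγ₂ (Ne.symm hne) g2 hs hu₂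
  have hR : ∀ {v' γ : CosetVertex A B} {u : G}, (cosetGraph A B).Adj a v' →
      (cosetGraph A B).Adj v' γ → Out T W v' γ u → u ∈ rv a := fun hav hγ hu =>
    d.below 2 (by omega) _ _ (Mix.left_of_right hγ (Mix.right_of_left hav hal))
      (Near.cons hγ.symm (Near.one hav.symm)) hu.1
  have r1 := hR hv₁ hγ₁ hu₁
  have r2 := hR hv₂ hγ₂ hu₂
  have f1 : u₁ • v = v := d.mix.rv_le_stab ha.symm r1
  have f2 : u₂ • v = v := d.mix.rv_le_stab ha.symm r2
  have a1 : u₁ • a = a := pCoreOf_le' 2 _ r1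
  have a2 : u₂ • a = a := pCoreOf_le' 2 _ r2
  refine ⟨v₁, v₂, γ₁, γ₂, u₁, u₂, hv₁, hv₂, hγ₁, hγ₂, g1, g2, hu₁, hu₂, r1, r2,
    (d.mix.loc ha).mul_mem_R ⟨f1, a1⟩ ⟨f2, a2⟩ k1 k2, fun hh => ?_, f1,
    d.mix.moves_of_not_rv ha hc hne f1 a1 k1⟩
  have hcomm := (d.mix.side hc.symm hcl).R_commute hh hs.1
  set z := zel A B T W v
  set z₁ := zel A B T W v₁
  set z₂ := zel A B T W v₂
  have hsa := d.mix.side ha.symm hal
  have hzW := d.mix.zel_mem ha.symm hal
  have hz₁W := d.mix.zel_mem hv₁ hal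
  have hz₂W := d.mix.zel_mem hv₂ hal
  have hz2u : u₁ * z₂ = z₂ * u₁ := (hsa.R_commute r1 hz₂W).symm
  have hzu : u₁ * z = z * u₁ := (hsa.R_commute r1 hzW).symm
  -- moving `s` past both
  have b1 : s * u₁ = z * z₁ * u₁ * s := by rw [← e1]; group
  have b2 : s * u₂ = z * z₂ * u₂ * s := by rw [← e2]; group
  have hsz : s * (z * z₁) = z * z₁ * s :=
    d.mix.vW_commute d.below le_rfl hv (le_vW hc hs.1) (le_vW ha (mul_mem hzW hz₁W))
  have key : z₁ * z₂ * (u₁ * u₂ * s) = u₁ * u₂ * s := by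
    have e : z * z₁ * u₁ * (z * z₂) = z₁ * z₂ * u₁ := by
      calc z * z₁ * u₁ * (z * z₂) = z * z₁ * (u₁ * (z * z₂)) := mul_assoc _ _ _
        _ = z * z₁ * (z * z₂ * u₁) := by
            rw [((show Commute u₁ z from hzu).mul_right (show Commute u₁ z₂ from hz2u)).eq]
        _ = z * (z₁ * z) * z₂ * u₁ := by group
        _ = z * (z * z₁) * z₂ * u₁ := by rw [hsa.W_commute hz₁W hzW]
        _ = z * z * (z₁ * z₂ * u₁) := by group
        _ = z₁ * z₂ * u₁ := by rw [hsa.sq _ hzW, one_mul]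
    calc z₁ * z₂ * (u₁ * u₂ * s) = z₁ * z₂ * u₁ * (u₂ * s) := by group
      _ = z * z₁ * u₁ * (z * z₂) * (u₂ * s) := by rw [e]
      _ = z * z₁ * u₁ * (z * z₂ * u₂ * s) := by group
      _ = z * z₁ * u₁ * (s * u₂) := by rw [b2]
      _ = z * z₁ * u₁ * s * u₂ := by group
      _ = s * u₁ * u₂ := by rw [b1]
      _ = u₁ * u₂ * s := by rw [mul_assoc, ← hcomm]
  have h12 : z₁ * z₂ = 1 := mul_eq_right.1 key
  exact n21 (d.mix.zel_inj hv₂ hv₁ hal
    ((inv_eq_of_mul_eq_one_right h12).symm.trans (d.mix.inv_of_w hal hz₁W)))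

theorem norm_X (d : Thr A B T W) (hv : v.isLeft = false) (hc : (cosetGraph A B).Adj v c)
    {X : Subgroup G} (hVX : vW T W v ≤ X) (hXK : X ≤ kW v)
    (hR : rv c ≤ normalizer (X : Set G)) :
    MulAction.stabilizer G v ≤ normalizer (X : Set G) := by
  obtain ⟨a, ha, hne, -⟩ := d.mix.exists_nbr_ne hc c
  obtain ⟨v₁, v₂, γ₁, γ₂, u₁, u₂, hv₁, hv₂, hγ₁, hγ₂, g1, g2, hu₁, hu₂, r1, r2, hg, hgc, f1,
    hmove⟩ := d.movers hv hc ha hne
  have hal := Mix.left_of_right ha hv
  have hn : ∀ {v' γ : CosetVertex A B} {u : G}, (cosetGraph A B).Adj a v' →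
      (cosetGraph A B).Adj v' γ → γ ≠ a → Out T W v' γ u → u ∈ normalizer (X : Set G) := by
    intro v' γ u hav hγ hne hu
    have hv'r := Mix.right_of_left hav hal
    have hγl := Mix.left_of_right hγ hv'r
    refine LocalEvenB.mem_normalizer_of_conj_mem fun k hk => ?_
    have hka : k ∈ rv a := (mem_kW.1 (hXK hk)).2 a ha
    have hki : k⁻¹ ∈ rv a := inv_mem hka
    have f1 : k⁻¹ • v' = v' := d.mix.rv_le_stab hav hki
    have fa : k⁻¹ • a = a := pCoreOf_le' 2 _ hki
    have hadj : (cosetGraph A B).Adj v' (k⁻¹ • γ) := by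
      have := cg_adj_smul k⁻¹ hγ
      rwa [f1] at this
    have ho := d.mix.out_smul k⁻¹ hu
    rw [f1] at ho
    have hW : k⁻¹ * u * k⁻¹⁻¹ * u ∈ X := hVX (le_vW ha (d.out_mul hv'r hav.symm hadj hγ
      (fun e => hne (MulAction.injective k⁻¹ (e.trans fa.symm))) hne ho hu))
    rw [inv_inv] at hW
    have := mul_mem hk hW
    rw [d.mix.inv_of_w hγl hu.1]
    rwa [show k * (k⁻¹ * u * k * u) = u * k * u by group] at this
  have hn1 := hn hv₁ hγ₁ g1 hu₁
  have hn2 := hn hv₂ hγ₂ g2 hu₂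
  refine d.mix.norm_of_move hc (fun e he => ?_) f1 hmove hn1
  by_cases heR : e ∈ rv c
  · exact hR heR
  · have hgE : u₁ * u₂ ∈ MulAction.stabilizer G c ⊓ MulAction.stabilizer G v :=
      ⟨d.mix.rv_le_stab hc hg, pCoreOf_le' 2 _ hg⟩
    have := mul_mem (hR ((d.mix.loc hc.symm).mul_mem_R ⟨he.2, he.1⟩ hgE heR hgc))
      (inv_mem (mul_mem hn1 hn2))
    rwa [mul_inv_cancel_right] at this

theorem X_le (d : Thr A B T W) (hv : v.isLeft = false) {M : Subgroup G} (hM : M ≤ kW v) :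
    vW T W v ⊔ M ≤ kW v := sup_le (d.vW_le_kW hv) hM

theorem pair_rv (d : Thr A B T W) (hv : (cosetGraph A B).Adj c v) (hv' : (cosetGraph A B).Adj c v') :
    rv c ≤ normalizer ((kW v ⊓ kW v' : Subgroup G) : Set G) := fun _ hr =>
  LocalEvenB.mem_normalizer_of_conj_mem fun _ hm =>
    ⟨Mix.kW_conj (d.mix.rv_le_stab hv hr) hm.1, Mix.kW_conj (d.mix.rv_le_stab hv' hr) hm.2⟩

theorem norm_pair (d : Thr A B T W) (hcl : c.isLeft = true) (hv : (cosetGraph A B).Adj c v)
    (hv' : (cosetGraph A B).Adj c v') :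
    MulAction.stabilizer G v ≤
      normalizer ((vW T W v ⊔ (kW v ⊓ kW v') : Subgroup G) : Set G) := by
  have hvr := Mix.right_of_left hv hcl
  refine d.norm_X hvr hv.symm le_sup_left (d.X_le hvr inf_le_left) fun r hr => ?_
  exact LocalEvenB.mem_normalizer_of_conjMap_le (by
    rw [Subgroup.map_sup, LocalEvenB.conjMap_eq_of_mem_normalizer
      (d.mix.stab_le_normalizer_vW _ (d.mix.rv_le_stab hv hr)),
      LocalEvenB.conjMap_eq_of_mem_normalizer (d.pair_rv hv hv' hr)])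

theorem pair_sq (d : Thr A B T W) (hcl : c.isLeft = true) (hv : (cosetGraph A B).Adj c v)
    (hv' : (cosetGraph A B).Adj c v') (hne : v ≠ v') {m : G} (hm : m ∈ kW v ⊓ kW v') :
    m * m = 1 := by
  set M := kW v ⊓ kW v' with hMdef
  set S : Subgroup G := closure {x | ∃ m ∈ M, x = m * m}
  have key : ∀ {v : CosetVertex A B} {M : Subgroup G}, v.isLeft = false → M ≤ kW v →
      MulAction.stabilizer G v ≤ normalizer ((vW T W v ⊔ M : Subgroup G) : Set G) →
      MulAction.stabilizer G v ≤ normalizer (closure {x | ∃ m ∈ M, x = m * m} : Set G) := by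
    intro v M hvr hMK hn g hg
    refine LocalEvenB.mem_normalizer_of_conjMap_le ?_
    rw [MonoidHom.map_closure, closure_le]
    rintro _ ⟨_, ⟨m, hm, rfl⟩, rfl⟩
    obtain ⟨w, hw, m', hm', e⟩ := mem_sup_comm (fun a ha b hb => d.kW_comm hvr (hMK hb) ha)
      ((mem_normalizer_iff.1 (hn hg) m).1 (mem_sup_right hm))
    have hwm : w * m' = m' * w := d.kW_comm hvr (hMK hm') hw
    refine subset_closure ⟨m', hm', ?_⟩
    show g * (m * m) * g⁻¹ = m' * m'
    calc g * (m * m) * g⁻¹ = g * m * g⁻¹ * (g * m * g⁻¹) := by group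
      _ = w * (m' * w) * m' := by rw [e]; group
      _ = w * w * (m' * m') := by rw [← hwm]; group
      _ = m' * m' := by rw [d.mix.vW_sq d.below le_rfl hvr hw, one_mul]
  have hvr := Mix.right_of_left hv hcl
  have hv'r := Mix.right_of_left hv' hcl
  have h1 : MulAction.stabilizer G v ≤ normalizer (S : Set G) :=
    key hvr inf_le_left (d.norm_pair hcl hv hv')
  have h2 : MulAction.stabilizer G v' ≤ normalizer (S : Set G) :=
    key hv'r inf_le_right (by rw [hMdef, inf_comm]; exact d.norm_pair hcl hv' hv)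
  have hSR : S ≤ rv c := (closure_le _).2 (by
    rintro _ ⟨m, hm, rfl⟩
    exact mul_mem ((mem_kW.1 hm.1).2 c hv.symm) ((mem_kW.1 hm.1).2 c hv.symm))
  have h0 := d.mix.noNormal_edge hv (N := S) (hSR.trans (d.mix.loc hv).R_le_T)
    (d.norm_c hv hv' hne h1 h2) h1
  have : m * m ∈ S := subset_closure ⟨m, hm, rfl⟩
  rwa [h0, mem_bot] at this

theorem swap (d : Thr A B T W) (hv : (cosetGraph A B).Adj c v) (hv' : (cosetGraph A B).Adj c v')
    (hv'' : (cosetGraph A B).Adj c v'') (n1 : v ≠ v') (n2 : v ≠ v'') (n3 : v' ≠ v'') {g : G}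
    (hgc : g • c = c) (hgv : g • v = v) (hgR : g ∉ rv c) : g • v'' = v' := by
  have hadj : (cosetGraph A B).Adj c (g • v'') := by
    have := cg_adj_smul g hv''
    rwa [hgc] at this
  rcases d.mix.nbr3 hv hv' hv'' hadj n1 n2 n3 with e | e | e
  · exact absurd (MulAction.injective g (e.trans hgv.symm)).symm n2
  · exact e
  · exact absurd e (d.mix.moves_of_not_rv hv hv'' n2 hgc hgv hgR)

theorem pair_half (d : Thr A B T W) (hcl : c.isLeft = true) (hv : (cosetGraph A B).Adj c v)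
    (hv' : (cosetGraph A B).Adj c v') (hv'' : (cosetGraph A B).Adj c v'') (n1 : v ≠ v')
    (n2 : v ≠ v'') (n3 : v' ≠ v'') (hγ : (cosetGraph A B).Adj v'' γ) (nγ : γ ≠ c) {m x : G}
    (hm : m ∈ kW v ⊓ kW v') (hx : Out T W v'' γ x) :
    m * x * m⁻¹ * x⁻¹ = 1 ∨ m * x * m⁻¹ * x⁻¹ = zel A B T W v' := by
  have hvr := Mix.right_of_left hv hcl
  have hv'r := Mix.right_of_left hv' hcl
  obtain ⟨t, ht, htR⟩ := d.mix.exists_rv_not_rv hv.symm
  have tc : t • c = c := d.mix.rv_le_stab hv.symm ht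
  have tv : t • v = v := pCoreOf_le' 2 _ ht
  have t2 : t • v'' = v' := d.swap hv hv' hv'' n1 n2 n3 tc tv htR
  have t1 : t • v' = v'' := d.swap hv hv'' hv' n2 n1 (Ne.symm n3) tc tv htR
  obtain ⟨w, hw, m', hm', e⟩ := mem_sup_comm
    (fun a ha b (hb : b ∈ kW v ⊓ kW v') => d.kW_comm hvr hb.1 ha)
    ((mem_normalizer_iff.1 (d.norm_pair hcl hv hv' tv) m).1 (mem_sup_right hm))
  have hγ' : (cosetGraph A B).Adj v' (t • γ) := by rw [← t2]; exact cg_adj_smul t hγ
  have nγ' : t • γ ≠ c := fun e => nγ (MulAction.injective t (e.trans tc.symm))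
  have hy := d.mix.out_smul t hx
  rw [t2] at hy
  set y := t * x * t⁻¹ with hydef
  have hm'y : m' * y = y * m' := by
    exact (d.kW_comm hv'r hm'.2 (le_vW hγ' hy.1)).symm
  have hyl := Mix.left_of_right hγ' hv'r
  have hyR : y ∈ rv c := d.below 2 (by omega) _ _ hyl (Near.cons hγ'.symm (Near.one hv'.symm)) hy.1
  have hsc := d.mix.side hv hcl
  have comm : t * (m * x * m⁻¹ * x⁻¹) * t⁻¹ = w * y * w⁻¹ * y⁻¹ := by
    calc t * (m * x * m⁻¹ * x⁻¹) * t⁻¹
        = t * m * t⁻¹ * y * (t * m * t⁻¹)⁻¹ * y⁻¹ := by rw [hydef]; group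
      _ = w * (m' * y) * m'⁻¹ * w⁻¹ * y⁻¹ := by rw [e]; group
      _ = w * y * w⁻¹ * y⁻¹ := by rw [hm'y]; group
  obtain ⟨δ, hδ, hδc, -⟩ := d.mix.exists_nbr_ne hv.symm c
  obtain ⟨s, hs⟩ := d.exists_out hvr hδ
  have hz : zel A B T W v'' = zel A B T W v * zel A B T W v' :=
    d.mix.third hv hv' hv'' hcl n1 (Ne.symm n2) (Ne.symm n3)
  have back : ∀ q, t * (m * x * m⁻¹ * x⁻¹) * t⁻¹ = t * q * t⁻¹ → m * x * m⁻¹ * x⁻¹ = q :=
    fun q e => mul_left_cancel (mul_right_cancel e)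
  rcases d.v_cases hvr hv.symm hδ hδc hs hw with hwc | hwc
  · refine Or.inl (back 1 ?_)
    rw [comm, hsc.R_commute hyR hwc]; group
  · refine Or.inr (back _ ?_)
    have h1 : t * zel A B T W v' * t⁻¹ = zel A B T W v'' := by rw [← d.mix.zel_smul, t1]
    obtain ⟨-, -, hc3⟩ := d.comm_out hcl hv hv' n1 hδ hγ' hδc nγ' hs hy
    have hzc : zel A B T W v * zel A B T W v' ∈ wW T W c :=
      mul_mem (d.mix.zel_mem hv hcl) (d.mix.zel_mem hv' hcl)
    have hw' : w = w * s * s := by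
      rw [mul_assoc, d.mix.vW_sq d.below le_rfl hvr (le_vW hδ hs.1), mul_one]
    rw [comm, h1, hz, hw']
    calc w * s * s * y * (w * s * s)⁻¹ * y⁻¹
        = w * s * (s * y * s⁻¹ * y⁻¹) * (y * (w * s)⁻¹ * y⁻¹) := by group
      _ = w * s * (zel A B T W v * zel A B T W v') * (w * s)⁻¹ := by
          rw [hc3, ← hsc.R_commute hyR (inv_mem hwc), mul_inv_cancel_right]
      _ = zel A B T W v * zel A B T W v' := by
          rw [hsc.W_commute hwc hzc, mul_inv_cancel_right]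

theorem pair_le (d : Thr A B T W) (hcl : c.isLeft = true) (hv : (cosetGraph A B).Adj c v)
    (hv' : (cosetGraph A B).Adj c v') (hne : v ≠ v') : kW v ⊓ kW v' ≤ lW c := by
  intro m hm
  obtain ⟨v'', hv'', n2, n3⟩ := d.mix.exists_nbr_ne hv v'
  have hv''r := Mix.right_of_left hv'' hcl
  have key : m ∈ kW v'' := by
    have hmR : m ∈ rv c := (mem_kW.1 hm.1).2 c hv.symm
    refine d.kW_of_cent hv''r (d.mix.rv_le_stab hv'' hmR) fun γ hγ w hw => ?_
    by_cases hγc : γ = c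
    · exact (d.mix.side hv hcl).R_commute hmR (hγc ▸ hw)
    by_cases h1 : w = 1
    · rw [h1, one_mul, mul_one]
    by_cases hz : w = zel A B T W v''
    · exact (d.mix.side hv hcl).R_commute hmR (hz ▸ d.mix.zel_mem hv'' hcl)
    have a := d.pair_half hcl hv hv' hv'' hne (Ne.symm n2) (Ne.symm n3) hγ hγc hm ⟨hw, h1, hz⟩
    have b := d.pair_half hcl hv' hv hv'' (Ne.symm hne) (Ne.symm n3) (Ne.symm n2) hγ hγc
      ⟨hm.2, hm.1⟩ ⟨hw, h1, hz⟩
    have e : m * w * m⁻¹ * w⁻¹ = 1 := by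
      rcases a with a | a
      · exact a
      rcases b with b | b
      · exact b
      exact absurd (d.mix.zel_inj hv' hv hcl (a.symm.trans b)) (Ne.symm hne)
    exact (mul_inv_eq_iff_eq_mul.1 (mul_inv_eq_one.1 e)).symm
  refine mem_lW.2 fun e he => ?_
  rcases d.mix.nbr3 hv hv' hv'' he hne (Ne.symm n2) (Ne.symm n3) with rfl | rfl | rfl
  exacts [hm.1, hm.2, key]

theorem lW_half (d : Thr A B T W) (hv : v.isLeft = false) (hc : (cosetGraph A B).Adj v c)
    (ha : (cosetGraph A B).Adj v a) :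
    Nat.card (lW c : Subgroup G) ≤ 2 * Nat.card (lW c ⊓ lW a : Subgroup G) := by
  have hal := Mix.left_of_right ha hv
  have hLK : ∀ {x : CosetVertex A B}, (cosetGraph A B).Adj v x → lW x ≤ kW v := fun hx =>
    d.mix.lW_le hx.symm
  set X := vW T W v ⊔ lW a
  have hn : MulAction.stabilizer G v ≤ normalizer (X : Set G) := by
    refine d.norm_X hv ha le_sup_left (d.X_le hv (hLK ha)) fun r hr => ?_
    refine LocalEvenB.mem_normalizer_of_conjMap_le ?_
    rw [Subgroup.map_sup, LocalEvenB.conjMap_eq_of_mem_normalizer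
      (d.mix.stab_le_normalizer_vW _ (d.mix.rv_le_stab ha.symm hr))]
    refine sup_le_sup_left ?_ _
    rintro _ ⟨l, hl, rfl⟩
    have := Mix.lW_smul (g := r) hl
    rwa [show r • a = a from pCoreOf_le' 2 _ hr] at this
  obtain ⟨g, hg, hga⟩ := cg_transitive_nbrs v c a hc ha
  have hcX : lW c ≤ X := by
    intro m hm
    have h1 := Mix.lW_smul (g := g) hm
    rw [hga] at h1
    exact (mem_normalizer_iff.1 (hn hg) m).2 (mem_sup_right h1)
  obtain ⟨δ, hδ, hδa, -⟩ := d.mix.exists_nbr_ne ha a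
  obtain ⟨s, hs⟩ := d.exists_out hv hδ
  refine card_le_two_mul fun x hx y hy hxn hyn => ?_
  obtain ⟨w₁, hw₁, l₁, hl₁, rfl⟩ :=
    mem_sup_comm (fun p hp q hq => d.kW_comm hv (hLK ha hq) hp) (hcX hx)
  obtain ⟨w₂, hw₂, l₂, hl₂, rfl⟩ :=
    mem_sup_comm (fun p hp q hq => d.kW_comm hv (hLK ha hq) hp) (hcX hy)
  have out : ∀ {w l : G}, w ∈ vW T W v → l ∈ lW a → w * l ∉ lW a → w * s ∈ wW T W a := by
    intro w l hw hl hn'
    exact (d.v_cases hv ha hδ hδa hs hw).resolve_left fun e =>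
      hn' (mul_mem (d.wW_le_lW hal e) hl)
  have k := d.wW_le_lW hal (mul_mem (out hw₁ hl₁ hxn) (out hw₂ hl₂ hyn))
  have hsV : s ∈ vW T W v := le_vW hδ hs.1
  rw [show w₁ * s * (w₂ * s) = w₁ * (s * w₂) * s by group,
    d.mix.vW_commute d.below le_rfl hv hsV hw₂,
    show w₁ * (w₂ * s) * s = w₁ * w₂ * (s * s) by group,
    d.mix.vW_sq d.below le_rfl hv hsV, mul_one] at k
  rw [show w₁ * l₁ * (w₂ * l₂) = w₁ * (l₁ * w₂) * l₂ by group,
    ← d.kW_comm hv (hLK ha hl₁) hw₂,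
    show w₁ * (w₂ * l₁) * l₂ = w₁ * w₂ * (l₁ * l₂) by group]
  exact mul_mem k (mul_mem hl₁ hl₂)

theorem lW_inter_norm (d : Thr A B T W) (hv : v.isLeft = false) (hc : (cosetGraph A B).Adj v c)
    (ha : (cosetGraph A B).Adj v a) (hne : a ≠ c) :
    rv c ≤ normalizer ((lW c ⊓ lW a : Subgroup G) : Set G) := by
  have hcl := Mix.left_of_right hc hv
  obtain ⟨v', hv', n', -⟩ := d.mix.exists_nbr_ne hc.symm v
  obtain ⟨γ, hγ, nγ, -⟩ := d.mix.exists_nbr_ne hv'.symm c
  have hv'r := Mix.right_of_left hv' hcl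
  obtain ⟨u, hu⟩ := d.exists_out hv'r hγ
  obtain ⟨s, hs⟩ := d.exists_out hv ha
  obtain ⟨-, hun, -⟩ := d.comm_out hcl hc.symm hv' (Ne.symm n') ha hγ hne nγ hs hu
  have huR : u ∈ rv c := d.below 2 (by omega) _ _ (Mix.left_of_right hγ hv'r)
    (Near.cons hγ.symm (Near.one hv'.symm)) hu.1
  have hucomm : ∀ m ∈ lW c, u * m = m * u := fun m hm =>
    d.kW_comm hv'r (d.mix.lW_le hv' hm) (le_vW hγ hu.1)
  have uc : u • c = c := pCoreOf_le' 2 _ huR
  have uv : u • v = v := d.mix.rv_le_stab hc.symm huR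
  have humove := d.mix.moves_of_not_rv hc ha (Ne.symm hne) uv uc hun
  intro r hr
  refine LocalEvenB.mem_normalizer_of_conj_mem fun m hm => ?_
  have rc : r • c = c := pCoreOf_le' 2 _ hr
  have rv' : r • v = v := d.mix.rv_le_stab hc.symm hr
  have h1 := Mix.lW_smul (g := r) hm.1
  rw [rc] at h1
  refine ⟨h1, ?_⟩
  have h2 := Mix.lW_smul (g := r) hm.2
  have hadj : (cosetGraph A B).Adj v (r • a) := by
    have := cg_adj_smul r ha; rwa [rv'] at this
  have hua : (cosetGraph A B).Adj v (u • a) := by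
    have := cg_adj_smul u ha; rwa [uv] at this
  have huc : c ≠ u • a := fun e => hne (MulAction.injective u (e.symm.trans uc.symm))
  rcases d.mix.nbr3 hc ha hua hadj (Ne.symm hne) huc (Ne.symm humove) with e | e | e
  · exact absurd (MulAction.injective r (e.trans rc.symm)) hne
  · rwa [e] at h2
  · rw [e] at h2
    have h3 := Mix.lW_smul (g := u⁻¹) h2
    rwa [inv_smul_smul, inv_inv, mul_assoc u⁻¹, ← hucomm _ h1, inv_mul_cancel_left] at h3

/-- An element centralised by the core of `c` in both intersections is trivial. -/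
theorem lW_inter_bot (d : Thr A B T W) (hcl : c.isLeft = true) (hv : (cosetGraph A B).Adj c v)
    (hv' : (cosetGraph A B).Adj c v') (hne : v ≠ v') {a a' : CosetVertex A B}
    (ha : (cosetGraph A B).Adj v a) (ha' : (cosetGraph A B).Adj v' a') (na : a ≠ c)
    (na' : a' ≠ c) : (lW c ⊓ lW a) ⊓ (lW c ⊓ lW a') = ⊥ := by
  by_contra hN
  set N := (lW c ⊓ lW a) ⊓ (lW c ⊓ lW a') with hNdef
  have hvr := Mix.right_of_left hv hcl
  have hv'r := Mix.right_of_left hv' hcl
  set R := rv c with hRdef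
  have hNR : N ≤ R := fun m hm => (mem_kW.1 (d.mix.lW_le hv hm.1.1)).2 c hv.symm
  have hRn : R ≤ normalizer (N : Set G) := fun r hr =>
    LocalEvenB.mem_normalizer_of_conj_mem fun m hm =>
      ⟨(mem_normalizer_iff.1 (d.lW_inter_norm hvr hv.symm ha na hr) m).1 hm.1,
        (mem_normalizer_iff.1 (d.lW_inter_norm hv'r hv'.symm ha' na' hr) m).1 hm.2⟩
  haveI : Fact (Nat.Prime 2) := ⟨Nat.prime_two⟩
  have hRp : IsPGroup 2 R := pCoreOf_isPGroup' 2 _
  haveI := hRp.isNilpotent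
  haveI : (N.subgroupOf R).Normal := normal_subgroupOf_of_le_normalizer hRn
  obtain ⟨z, hzN, hzc, hz1⟩ := LocalEvenB.exists_mem_center_ne_one (N.subgroupOf R) (by
    intro h'
    rw [subgroupOf_eq_bot, disjoint_iff, inf_eq_left.2 hNR] at h'
    exact hN h')
  set m : G := (z : G)
  have hm : m ∈ N := mem_subgroupOf.1 hzN
  have hmc : ∀ r ∈ R, r * m = m * r := fun r hr =>
    congrArg Subtype.val (mem_center_iff.1 hzc ⟨r, hr⟩)
  have side : ∀ {v a : CosetVertex A B}, v.isLeft = false → (cosetGraph A B).Adj v c →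
      (cosetGraph A B).Adj v a → a ≠ c → m ∈ lW a →
      (∀ g ∈ MulAction.stabilizer G v, g * m = m * g) ∧
        ∃ g ∈ rv v, g ∉ rv c ∧ g * m = m * g := by
    intro v a hvr hc ha na hma
    obtain ⟨v₁, v₂, γ₁, γ₂, u₁, u₂, hv₁, hv₂, hγ₁, hγ₂, -, -, hu₁, hu₂, -, -, hg, hgc, f1,
      hmove⟩ := d.movers hvr hc ha na
    have hal := Mix.left_of_right ha hvr
    have e1 : u₁ * m = m * u₁ :=
      d.kW_comm (Mix.right_of_left hv₁ hal) (mem_lW.1 hma _ hv₁) (le_vW hγ₁ hu₁.1)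
    have e2 : u₂ * m = m * u₂ :=
      d.kW_comm (Mix.right_of_left hv₂ hal) (mem_lW.1 hma _ hv₂) (le_vW hγ₂ hu₂.1)
    have e12 : u₁ * u₂ * m = m * (u₁ * u₂) :=
      ((show Commute u₁ m from e1).mul_left (show Commute u₂ m from e2)).eq
    refine ⟨d.mix.cent_of_move hc (fun e he => ?_) f1 hmove e1, _, hg, hgc, e12⟩
    by_cases heR : e ∈ rv c
    · exact hmc e heR
    · have hgE : u₁ * u₂ ∈ MulAction.stabilizer G c ⊓ MulAction.stabilizer G v :=
        ⟨d.mix.rv_le_stab hc hg, pCoreOf_le' 2 _ hg⟩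
      have h3 := ((show Commute (e * (u₁ * u₂)) m from
        hmc _ ((d.mix.loc hc.symm).mul_mem_R ⟨he.2, he.1⟩ hgE heR hgc)).mul_left
          (show Commute (u₁ * u₂) m from e12).inv_left).eq
      rwa [mul_inv_cancel_right] at h3
  obtain ⟨hall, -⟩ := side hvr hv.symm ha na hm.1.2
  obtain ⟨-, g, hg, hgc, hgm⟩ := side hv'r hv'.symm ha' na' hm.2.2
  have gc : g • c = c := d.mix.rv_le_stab hv'.symm hg
  have hcall := d.mix.cent_of_move hv (fun e he => hall e he.2) gc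
    (d.mix.moves_of_not_rv hv' hv (Ne.symm hne) gc (pCoreOf_le' 2 _ hg) hgc) hgm
  exact hz1 (Subtype.ext (d.mix.kill hv ((d.mix.loc hv).R_le_T (hNR hm)) hcall hall))

theorem card_le (d : Thr A B T W) : Nat.card T ≤ 128 := by
  have hmix := d.mix
  set c : CosetVertex A B := Sum.inl ((1 : G) : G ⧸ A)
  set v : CosetVertex A B := Sum.inr ((1 : G) : G ⧸ B)
  have hv : (cosetGraph A B).Adj c v := cg_adj_inl_inr 1
  have hcl : c.isLeft = true := rfl
  have hvr : v.isLeft = false := rfl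
  obtain ⟨v', hv', n', -⟩ := hmix.exists_nbr_ne hv v
  have hv'r := Mix.right_of_left hv' hcl
  obtain ⟨a, ha, na, -⟩ := hmix.exists_nbr_ne hv.symm c
  obtain ⟨a', ha', na', -⟩ := hmix.exists_nbr_ne hv'.symm c
  -- the common kernel is small
  have hL : Nat.card (lW c : Subgroup G) ≤ 4 := by
    have h1 := d.lW_half hvr hv.symm ha
    have h2 := d.lW_half hv'r hv'.symm ha'
    set I := lW c ⊓ lW a
    set I' := lW c ⊓ lW a'
    have hI : I ⊓ I' = ⊥ := d.lW_inter_bot hcl hv hv' (Ne.symm n') ha ha' na na'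
    have h3 := relIndex_mul_relIndex ⊥ I (lW c) bot_le inf_le_left
    rw [relIndex_bot_left, relIndex_bot_left] at h3
    have h4 : Nat.card I' ≤ I.relIndex (lW c) := by
      have := relIndex_le_of_le_right (H := I) (show I' ≤ lW c from inf_le_left)
        (fun e => index_ne_zero_of_finite e)
      rwa [← inf_relIndex_left, inf_comm, hI, relIndex_bot_left] at this
    have hpos : 0 < Nat.card I' := Nat.card_pos
    by_contra h5
    push Not at h5
    nlinarith
  have hidx : ∀ {v a : CosetVertex A B}, v.isLeft = false → (cosetGraph A B).Adj v c →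
      (cosetGraph A B).Adj v a → a ≠ c → (kW v).relIndex (rv c) ≤ 4 := by
    intro v a hvr hc ha na
    have hle : rv c ⊓ rv v ⊓ rv a ≤ kW v := by
      intro g hg
      refine d.kW_of_cent hvr (pCoreOf_le' 2 _ hg.1.2) fun e he w hw => ?_
      obtain ⟨s, hs⟩ := d.exists_out hvr ha
      have c1 : ∀ w ∈ wW T W c, Commute w g := fun w hw =>
        (hmix.side hc.symm hcl).R_commute hg.1.1 hw
      have c2 : Commute s g :=
        (hmix.side ha.symm (Mix.left_of_right ha hvr)).R_commute hg.2 hs.1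
      rcases d.v_cases hvr hc ha na hs (le_vW he hw) with k | k
      · exact c1 w k
      · have := (c1 _ k).mul_left c2
        rwa [mul_assoc, hmix.vW_sq d.below le_rfl hvr (le_vW ha hs.1), mul_one] at this
    calc (kW v).relIndex (rv c) ≤ (rv c ⊓ rv v ⊓ rv a).relIndex (rv c) :=
          relIndex_le_of_le_left hle (fun e => index_ne_zero_of_finite e)
      _ = (rv a).relIndex (rv c ⊓ rv v) * (rv v).relIndex (rv c) := by
          rw [← relIndex_mul_relIndex (rv c ⊓ rv v ⊓ rv a) (rv c ⊓ rv v) (rv c) inf_le_left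
            inf_le_left, inf_relIndex_left, inf_relIndex_left]
      _ ≤ 2 * 2 := Nat.mul_le_mul
          ((relIndex_le_of_le_right inf_le_right (fun e => index_ne_zero_of_finite e)).trans
            (hmix.relIndex_rv_le ha)) (hmix.relIndex_rv_le hc.symm)
      _ = 4 := rfl
  have k1 := hidx hvr hv.symm ha na
  have k2 := hidx hv'r hv'.symm ha' na'
  have k3 : (kW v ⊓ kW v').relIndex (rv c) ≤ 16 :=
    relIndex_inf_le.trans (Nat.mul_le_mul k1 k2)
  have k4 : Nat.card (kW v ⊓ kW v' : Subgroup G) ≤ 4 :=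
    (Nat.card_le_card_of_injective _ (Subgroup.inclusion_injective
      (d.pair_le hcl hv hv' (Ne.symm n')))).trans hL
  have k5 := relIndex_mul_relIndex ⊥ (kW v ⊓ kW v') (rv c) bot_le
    (fun m hm => (mem_kW.1 hm.1).2 c hv.symm)
  rw [relIndex_bot_left, relIndex_bot_left] at k5
  have k6 := hmix.card_rv_all c
  nlinarith [Nat.mul_le_mul k4 k3]

end Thr

namespace Mix

/-- The bound in the mixed case. -/
theorem card_le (h : Mix T A B W) : Nat.card T ≤ 128 := by
  obtain ⟨b, f, hb1, hf, h0, hc, hb⟩ := h.exists_crit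
  have hb2 := h.two_le hb hf h0 hc hb1
  rcases Nat.mod_two_eq_zero_or_one b with he | ho
  · rcases Nat.eq_or_lt_of_le hb2 with rfl | hlt
    · exact h.even_two hb hf h0 hc
    · exact (h.no_even_long hb (by omega) he hf h0 hc).elim
  · have c : OddCrit A B T W b f := ⟨hb, ho, by omega, hf, h0, hc⟩
    rcases Nat.eq_or_lt_of_le c.three with rfl | hlt
    · exact (Thr.of h c).card_le
    · exact (h.no_odd_long c (by omega)).elim

end Mix

end Cfsg.Agent.LocalEvenA.Gold
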