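import Cfsg.Agent.Lib.LocalEvenA.Gold.Setup

/-!
Walks without back-tracking in the coset graph, critical walks, and transitivity on walks.
-/

set_option autoImplicit false

namespace Cfsg.Agent.LocalEvenA.Gold

open Subgroup Cfsg Agent.LocalEvenA Cfsg.Agent.LocalEvenB.ZN

variable {G : Type*} [Group G] {T A B W : Subgroup G}

/-- A walk of length `n` without back-tracking. -/
def NB (n : ℕ) (f : ℕ → CosetVertex A B) : Prop :=
  (∀ i, i < n → (cosetGraph A B).Adj (f i) (f (i + 1))) ∧ ∀ i, i + 2 ≤ n → f i ≠ f (i + 2)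

/-- The four-groups act trivially at distance less than `b`. -/
def BelowA (A B T W : Subgroup G) (b : ℕ) : Prop :=
  ∀ n, n < b → ∀ v u : CosetVertex A B, v.isLeft = true → Near n v u → wW T W v ≤ rv u

/-- A walk whose start acts nontrivially at its end. -/
def Crit (T W : Subgroup G) (b : ℕ) (f : ℕ → CosetVertex A B) : Prop :=
  ¬ wW T W (f 0) ≤ rv (f b)

/-- Some element fixes a walk of length `n` ending at a vertex of type `τ` and moves its extensions. -/
def Mov (A B : Subgroup G) (τ : Bool) (n : ℕ) : Prop :=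
  ∃ (f : ℕ → CosetVertex A B) (g : G), NB n f ∧ (f n).isLeft = τ ∧ (∀ i, i ≤ n → g • f i = f i) ∧
    g ∉ rv (f n)

theorem near_of_adj {n : ℕ} {f : ℕ → CosetVertex A B}
    (h : ∀ i, i < n → (cosetGraph A B).Adj (f i) (f (i + 1))) :
    ∀ k i, i + k ≤ n → Near k (f i) (f (i + k)) := by
  intro k
  induction k with
  | zero => intro i _; exact Near.refl _
  | succ k ih =>
    intro i hi
    have h1 := ih (i + 1) (by omega)
    rw [show i + 1 + k = i + (k + 1) by omega] at h1
    exact Near.cons (h i (by omega)) h1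

theorem NB.near {n : ℕ} {f : ℕ → CosetVertex A B} (h : NB n f) {i j : ℕ} (hij : i ≤ j)
    (hj : j ≤ n) : Near (j - i) (f i) (f j) := by
  have := near_of_adj h.1 (j - i) i (by omega)
  rwa [show i + (j - i) = j by omega] at this

theorem NB.type {n : ℕ} {f : ℕ → CosetVertex A B} (h : NB n f) {i : ℕ} (hi : i ≤ n) :
    (f i).isLeft = if i % 2 = 0 then (f 0).isLeft else !(f 0).isLeft := by
  have h1 := ZNB.parity (h.near (Nat.zero_le i) hi)
  rw [Nat.sub_zero] at h1
  by_cases he : i % 2 = 0
  · rw [if_pos he]; exact h1.1 he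
  · rw [if_neg he]
    cases h0 : (f 0).isLeft <;> cases h2 : (f i).isLeft <;> simp_all

theorem NB.left {n : ℕ} {f : ℕ → CosetVertex A B} (h : NB n f) (h0 : (f 0).isLeft = true) {i : ℕ}
    (hi : i ≤ n) (he : i % 2 = 0) : (f i).isLeft = true := by
  rw [h.type hi, if_pos he, h0]

theorem NB.right {n : ℕ} {f : ℕ → CosetVertex A B} (h : NB n f) (h0 : (f 0).isLeft = true) {i : ℕ}
    (hi : i ≤ n) (he : i % 2 = 1) : (f i).isLeft = false := by
  rw [h.type hi, if_neg (by omega), h0]; rfl

theorem NB.mono {n m : ℕ} {f : ℕ → CosetVertex A B} (h : NB n f) (hm : m ≤ n) : NB m f :=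
  ⟨fun i hi => h.1 i (by omega), fun i hi => h.2 i (by omega)⟩

theorem NB.shift {n : ℕ} {f : ℕ → CosetVertex A B} (h : NB n f) {k m : ℕ} (hkm : k + m ≤ n) :
    NB m (fun i => f (i + k)) :=
  ⟨fun i hi => by
    show (cosetGraph A B).Adj (f (i + k)) (f (i + 1 + k))
    rw [show i + 1 + k = i + k + 1 by omega]
    exact h.1 _ (by omega),
  fun i hi => by
    show f (i + k) ≠ f (i + 2 + k)
    rw [show i + 2 + k = i + k + 2 by omega]
    exact h.2 _ (by omega)⟩

theorem NB.rev {n : ℕ} {f : ℕ → CosetVertex A B} (h : NB n f) : NB n (fun i => f (n - i)) :=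
  ⟨fun i hi => by
    show (cosetGraph A B).Adj (f (n - i)) (f (n - (i + 1)))
    have := h.1 (n - (i + 1)) (by omega)
    rw [show n - (i + 1) + 1 = n - i by omega] at this
    exact this.symm,
  fun i hi => by
    show f (n - i) ≠ f (n - (i + 2))
    have := h.2 (n - (i + 2)) (by omega)
    rw [show n - (i + 2) + 2 = n - i by omega] at this
    exact this.symm⟩

theorem NB.smul {n : ℕ} {f : ℕ → CosetVertex A B} (h : NB n f) (g : G) :
    NB n (fun i => g • f i) :=
  ⟨fun i hi => cg_adj_smul g (h.1 i hi), fun i hi e => h.2 i hi (MulAction.injective g e)⟩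

/-- Prepend a vertex to a walk. -/
def cons (x : CosetVertex A B) (f : ℕ → CosetVertex A B) : ℕ → CosetVertex A B
  | 0 => x
  | i + 1 => f i

theorem NB.cons {n : ℕ} {f : ℕ → CosetVertex A B} (h : NB n f) {x : CosetVertex A B}
    (hx : (cosetGraph A B).Adj x (f 0)) (hne : n = 0 ∨ x ≠ f 1) :
    NB (n + 1) (Gold.cons x f) := by
  refine ⟨fun i hi => ?_, fun i hi => ?_⟩
  · rcases i with _ | i
    · exact hx
    · exact h.1 i (by omega)
  · rcases i with _ | i
    · rcases hne with e | e
      · omega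
      · exact e
    · exact h.2 i (by omega)

/-- Append a vertex to a walk of length `n`. -/
def snoc (n : ℕ) (f : ℕ → CosetVertex A B) (x : CosetVertex A B) : ℕ → CosetVertex A B :=
  fun i => if i ≤ n then f i else x

theorem snoc_le {n i : ℕ} {f : ℕ → CosetVertex A B} {x : CosetVertex A B} (hi : i ≤ n) :
    snoc n f x i = f i := if_pos hi

theorem snoc_gt {n i : ℕ} {f : ℕ → CosetVertex A B} {x : CosetVertex A B} (hi : n < i) :
    snoc n f x i = x := if_neg (by omega)

theorem NB.snoc {n : ℕ} {f : ℕ → CosetVertex A B} (h : NB n f) {x : CosetVertex A B}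
    (hx : (cosetGraph A B).Adj (f n) x) (hne : n = 0 ∨ f (n - 1) ≠ x) :
    NB (n + 1) (Gold.snoc n f x) := by
  refine ⟨fun i hi => ?_, fun i hi => ?_⟩
  · by_cases hin : i < n
    · rw [snoc_le (by omega), snoc_le (by omega)]; exact h.1 i hin
    · obtain rfl : i = n := by omega
      rw [snoc_le le_rfl, snoc_gt (by omega)]; exact hx
  · by_cases hin : i + 2 ≤ n
    · rw [snoc_le (by omega), snoc_le (by omega)]; exact h.2 i hin
    · rw [snoc_le (by omega), snoc_gt (by omega)]
      rcases hne with e | e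
      · omega
      · rwa [show i = n - 1 by omega]

variable [Finite G]

namespace Mix

theorem mem_rv_smul {g x : G} {v : CosetVertex A B} : g * x * g⁻¹ ∈ rv (g • v) ↔ x ∈ rv v := by
  rw [rv_smul, LocalEvenB.mem_conjMap]
  simp [mul_assoc]

theorem crit_smul (h : Mix T A B W) {b : ℕ} {f : ℕ → CosetVertex A B} (g : G) :
    Crit T W b (fun i => g • f i) ↔ Crit T W b f := by
  show (¬ wW T W (g • f 0) ≤ rv (g • f b)) ↔ ¬ wW T W (f 0) ≤ rv (f b)
  rw [h.wW_smul, rv_smul, map_le_map_iff_of_injective (MulAut.conj g).injective]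

theorem crit_congr {b : ℕ} {f f' : ℕ → CosetVertex A B} (h0 : f 0 = f' 0) (hb : f b = f' b) :
    Crit T W b f ↔ Crit T W b f' := by rw [Crit, Crit, h0, hb]

/-- Edge transitivity, as the start of the induction. -/
theorem trans_zero (h : Mix T A B W) {x y : CosetVertex A B} (ht : y.isLeft = x.isLeft) :
    ∃ g : G, g • x = y := by
  obtain ⟨x', hx⟩ := exists_nbr x
  obtain ⟨y', hy⟩ := exists_nbr y
  obtain ⟨g, hg, -⟩ := edge_trans hx hy ht
  exact ⟨g, hg⟩

/-- Transitivity on walks. -/
theorem trans (h : Mix T A B W) (n : ℕ) :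
    (∀ m τ, 1 ≤ m → m < n → Mov A B τ m) → ∀ f k : ℕ → CosetVertex A B, NB n f → NB n k →
      (f 0).isLeft = (k 0).isLeft → ∃ g : G, ∀ i, i ≤ n → g • f i = k i := by
  induction n with
  | zero =>
    intro _ f k _ _ ht
    obtain ⟨g, hg⟩ := h.trans_zero ht.symm
    exact ⟨g, fun i hi => by rw [show i = 0 by omega]; exact hg⟩
  | succ m ih =>
    intro hM f k hf hk ht
    rcases Nat.eq_zero_or_pos m with rfl | hm
    · obtain ⟨g, hg0, hg1⟩ := edge_trans (hf.1 0 (by omega)) (hk.1 0 (by omega)) ht.symm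
      exact ⟨g, fun i hi => by interval_cases i <;> assumption⟩
    obtain ⟨g, hg⟩ := ih (fun m' τ h1 h2 => hM m' τ h1 (by omega)) f k (hf.mono (by omega))
      (hk.mono (by omega)) ht
    by_cases he : g • f (m + 1) = k (m + 1)
    · exact ⟨g, fun i hi => by
        rcases Nat.lt_or_ge m i with h1 | h1
        · rw [show i = m + 1 by omega]; exact he
        · exact hg i h1⟩
    obtain ⟨f₀, g₀, hf₀, hτ, hfix, hg₀⟩ := hM m (k m).isLeft hm (by omega)
    have ht0 : (f₀ 0).isLeft = (k 0).isLeft := by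
      have h1 := hf₀.type (le_refl m)
      have h2 := (hk.mono (Nat.le_succ m)).type (le_refl m)
      rw [hτ, h2] at h1
      split_ifs at h1 with h3
      · exact h1.symm
      · exact (Bool.not_inj h1).symm
    obtain ⟨c, hc⟩ := ih (fun m' τ h1 h2 => hM m' τ h1 (by omega)) f₀ k hf₀ (hk.mono (by omega)) ht0
    have hfix' : ∀ i, i ≤ m → (c * g₀ * c⁻¹) • k i = k i := by
      intro i hi
      rw [← hc i hi, mul_smul, inv_smul_smul, mul_smul, hfix i hi]
    have hR : c * g₀ * c⁻¹ ∉ rv (k m) := by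
      rw [← hc m le_rfl, mem_rv_smul]; exact hg₀
    have hx : (cosetGraph A B).Adj (k m) (g • f (m + 1)) := by
      rw [← hg m le_rfl]; exact cg_adj_smul g (hf.1 m (by omega))
    have hy := hk.1 m (by omega)
    have hz : (cosetGraph A B).Adj (k m) (k (m - 1)) := by
      have := hk.1 (m - 1) (by omega)
      rw [show m - 1 + 1 = m by omega] at this
      exact this.symm
    have hzy : k (m - 1) ≠ k (m + 1) := by
      have := hk.2 (m - 1) (by omega)
      rwa [show m - 1 + 2 = m + 1 by omega] at this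
    have hzx : k (m - 1) ≠ g • f (m + 1) := by
      rw [← hg (m - 1) (by omega)]
      have := hf.2 (m - 1) (by omega)
      rw [show m - 1 + 2 = m + 1 by omega] at this
      exact fun e => this (MulAction.injective g e)
    have hmv := h.moves_of_not_rv hz hx hzx (g := c * g₀ * c⁻¹) (hfix' m le_rfl)
      (hfix' (m - 1) (by omega)) hR
    have hadj : (cosetGraph A B).Adj (k m) ((c * g₀ * c⁻¹) • g • f (m + 1)) := by
      have := cg_adj_smul (c * g₀ * c⁻¹) hx
      rwa [hfix' m le_rfl] at this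
    rcases h.nbr3 hz hx hy hadj hzx hzy he with e | e | e
    · exfalso
      refine hzx (MulAction.injective (c * g₀ * c⁻¹) ?_)
      exact (hfix' (m - 1) (by omega)).trans e.symm
    · exact absurd e hmv
    · refine ⟨c * g₀ * c⁻¹ * g, fun i hi => ?_⟩
      rw [mul_smul]
      rcases Nat.lt_or_ge m i with h1 | h1
      · rw [show i = m + 1 by omega]; exact e
      · rw [hg i h1]; exact hfix' i h1

/-- Shorter walks can be moved as well. -/
theorem mov_mono {τ : Bool} {n m : ℕ} (h : Mov A B τ n) (hm : m ≤ n) : Mov A B τ m := by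
  obtain ⟨f, g, hf, hτ, hfix, hg⟩ := h
  refine ⟨fun i => f (i + (n - m)), g, hf.shift (by omega), ?_, fun i hi => hfix _ (by omega), ?_⟩
  · show (f (m + (n - m))).isLeft = τ
    rwa [show m + (n - m) = n by omega]
  · show g ∉ rv (f (m + (n - m)))
    rwa [show m + (n - m) = n by omega]

/-- Movers of both types make every walk critical. -/
theorem crit_of_mov (h : Mix T A B W) {b n : ℕ} (hbn : b ≤ n + 1) {f k : ℕ → CosetVertex A B}
    (h₁ : Mov A B true n) (h₂ : Mov A B false n) (hf : NB b f) (hc : Crit T W b f)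
    (hk : NB b k) (ht : (f 0).isLeft = (k 0).isLeft) : Crit T W b k := by
  obtain ⟨g, hg⟩ := h.trans b (fun m τ _ hm => by
    cases τ
    · exact mov_mono h₂ (by omega)
    · exact mov_mono h₁ (by omega)) f k hf hk ht
  rw [← crit_congr (f := fun i => g • f i) (f' := k) (hg 0 (Nat.zero_le b)) (hg b le_rfl),
    h.crit_smul]
  exact hc

/-- There is a critical walk. -/
theorem exists_crit (h : Mix T A B W) :
    ∃ (b : ℕ) (f : ℕ → CosetVertex A B), 1 ≤ b ∧ NB b f ∧ (f 0).isLeft = true ∧
      Crit T W b f ∧ BelowA A B T W b := by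
  classical
  have hex : ∃ n, ∃ a a' : CosetVertex A B, a.isLeft = true ∧ Near n a a' ∧
      ¬ wW T W a ≤ rv a' := by
    by_contra hc
    push Not at hc
    set a₀ : CosetVertex A B := Sum.inl ((1 : G) : G ⧸ A) with ha₀
    set b₀ : CosetVertex A B := Sum.inr ((1 : G) : G ⧸ B) with hb₀
    have hab : (cosetGraph A B).Adj a₀ b₀ := cg_adj_inl_inr 1
    set N : Subgroup G := ⨅ (u : CosetVertex A B) (_ : (cosetGraph A B).Reachable a₀ u),
      MulAction.stabilizer G u with hN
    have hle : wW T W a₀ ≤ N := by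
      refine le_iInf₂ fun u hu => ?_
      obtain ⟨p⟩ := hu
      exact (hc p.length a₀ u rfl ⟨p, rfl⟩).trans (pCoreOf_le' 2 _)
    have hnorm : ∀ (x : CosetVertex A B), (cosetGraph A B).Reachable a₀ x →
        MulAction.stabilizer G x ≤ normalizer (N : Set G) := by
      intro x hx g hg
      refine LocalEvenB.mem_normalizer_of_conj_mem fun n hn => ?_
      simp only [hN, mem_iInf] at hn ⊢
      intro u hu
      have hgx : g⁻¹ • x = x := inv_mem (s := MulAction.stabilizer G x) hg
      have h1 := hn (g⁻¹ • u) (hx.trans (by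
        have := cg_reachable_smul g⁻¹ (hx.symm.trans hu)
        rwa [hgx] at this))
      rw [MulAction.mem_stabilizer_iff] at h1 ⊢
      rw [mul_smul, mul_smul, h1, smul_inv_smul]
    have h0 := h.noNormal_edge hab (N := N)
      (le_inf (iInf₂_le a₀ (SimpleGraph.Reachable.refl a₀)) (iInf₂_le b₀ hab.reachable))
      (hnorm a₀ (SimpleGraph.Reachable.refl a₀)) (hnorm b₀ hab.reachable)
    have := (h.side hab rfl).card_W
    rw [h0, le_bot_iff] at hle
    rw [hle, card_bot] at this
    omega
  obtain ⟨a, a', hl, ⟨p, hp⟩, hna⟩ := Nat.find_spec hex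
  have hbelow : BelowA A B T W (Nat.find hex) := fun m hm v u hv hvu => by
    by_contra hc
    exact Nat.find_min hex hm ⟨v, u, hv, hvu, hc⟩
  have hadj : ∀ i, i < Nat.find hex →
      (cosetGraph A B).Adj (p.getVert i) (p.getVert (i + 1)) :=
    fun i hi => p.adj_getVert_succ (by omega)
  refine ⟨Nat.find hex, fun i => p.getVert i, ?_, ⟨hadj, fun i hi he => ?_⟩, ?_, ?_, hbelow⟩
  · by_contra h0
    have h0' : p.length = 0 := by omega
    obtain rfl : a = a' := p.eq_of_length_eq_zero h0'
    obtain ⟨u, hu⟩ := exists_nbr a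
    exact hna (h.side hu hl).hWR
  · refine hna (hbelow (Nat.find hex - 2) (by omega) a a' hl ?_)
    have h1 := near_of_adj hadj i 0 (by omega)
    have h2 := near_of_adj hadj (Nat.find hex - (i + 2)) (i + 2) (by omega)
    rw [show i + 2 + (Nat.find hex - (i + 2)) = Nat.find hex by omega, ← hp,
      p.getVert_length] at h2
    rw [zero_add, p.getVert_zero] at h1
    have e : p.getVert i = p.getVert (i + 2) := he
    rw [e] at h1
    have := h1.trans h2
    rwa [show i + (p.length - (i + 2)) = Nat.find hex - 2 by omega] at this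
  · show (p.getVert 0).isLeft = true
    rw [p.getVert_zero]; exact hl
  · show ¬ wW T W (p.getVert 0) ≤ rv (p.getVert (Nat.find hex))
    rw [p.getVert_zero, ← hp, p.getVert_length]; exact hna

variable {b : ℕ} {x y : CosetVertex A B}

theorem w_stab (h : Mix T A B W) (hb : BelowA A B T W b) (hx : x.isLeft = true) {n : ℕ}
    (hn : Near n x y) (hnb : n ≤ b) (hb1 : 1 ≤ b) : wW T W x ≤ MulAction.stabilizer G y := by
  by_cases hlt : n < b
  · exact (hb n hlt x y hx hn).trans (pCoreOf_le' 2 _)
  · obtain ⟨m, rfl⟩ : ∃ m, n = m + 1 := ⟨n - 1, by omega⟩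
    obtain ⟨z, hz, hzn⟩ := hn.last
    exact (hb m (by omega) x z hx hzn).trans (h.rv_le_stab hz)

theorem w_comm (h : Mix T A B W) (hb : BelowA A B T W b) (hx : x.isLeft = true)
    (hy : y.isLeft = true) {n : ℕ} (hn : Near n x y) (hnb : n < b) {p q : G}
    (hp : p ∈ wW T W x) (hq : q ∈ wW T W y) : p * q = q * p := by
  obtain ⟨y', hy'⟩ := exists_nbr y
  exact ((h.side hy' hy).R_commute (hb n hnb x y hx hn hp) hq).symm

/-- The critical distance is at least two. -/
theorem two_le (h : Mix T A B W) (hb : BelowA A B T W b) {f : ℕ → CosetVertex A B}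
    (hf : NB b f) (h0 : (f 0).isLeft = true) (hc : Crit T W b f) (hb1 : 1 ≤ b) : 2 ≤ b := by
  by_contra hlt
  obtain rfl : b = 1 := by omega
  have hav := hf.1 0 (by omega)
  set v := f (0 + 1) with hv
  set R := rv v with hR
  set S := MulAction.stabilizer G v with hS
  have hsa := h.side hav h0
  have hz := h.zel_mem_pt hav h0
  set z := zel A B T W v with hzdef
  have hzc : ∀ g ∈ S, g * z = z * g := fun g hg => h.zel_comm hg
  have hzz : z * z = 1 := hsa.sq z hz.1.1
  let C : Subgroup G :=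
    { carrier := {g | g ∈ S ∧ ∀ q ∈ R, q * g * q⁻¹ = g ∨ q * g * q⁻¹ = z * g}
      one_mem' := ⟨one_mem _, fun q _ => Or.inl (by simp)⟩
      mul_mem' := fun {g k} hg hk => ⟨mul_mem hg.1 hk.1, fun q hq => by
        have hzg := hzc g hg.1
        rw [show q * (g * k) * q⁻¹ = (q * g * q⁻¹) * (q * k * q⁻¹) by group]
        rcases hg.2 q hq with e | e <;> rcases hk.2 q hq with e' | e' <;> rw [e, e']
        · exact Or.inl rfl
        · exact Or.inr (by rw [← mul_assoc, hzg, mul_assoc])
        · exact Or.inr (by rw [mul_assoc])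
        · exact Or.inl (by rw [mul_assoc, ← mul_assoc g, hzg, ← mul_assoc, ← mul_assoc, hzz,
            one_mul])⟩
      inv_mem' := fun {g} hg => ⟨inv_mem hg.1, fun q hq => by
        have hzg := hzc g⁻¹ (inv_mem hg.1)
        rw [show q * g⁻¹ * q⁻¹ = (q * g * q⁻¹)⁻¹ by group]
        rcases hg.2 q hq with e | e <;> rw [e]
        · exact Or.inl rfl
        · exact Or.inr (by rw [mul_inv_rev, inv_eq_of_mul_eq_one_right hzz, hzg])⟩ }
  have hWC : wW T W (f 0) ≤ C := by
    intro w hw
    exact ⟨h.w_stab hb h0 (Near.one hav) le_rfl le_rfl hw, fun q hq =>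
      h.comm_cases hav h0 (h.rv_le_stab hav.symm hq) (pCoreOf_le' 2 _ hq) hw⟩
  have hCn : (C.subgroupOf S).Normal := by
    refine ⟨fun g hg k => ?_⟩
    rw [mem_subgroupOf] at hg ⊢
    refine ⟨(k * g * k⁻¹).2, fun q hq => ?_⟩
    have hq' : (k : G)⁻¹ * q * k ∈ R := by
      have := (mem_normalizer_iff.1 (le_normalizer_pCoreOf 2 S (inv_mem k.2)) q).1 hq
      rwa [inv_inv] at this
    show q * ((k : G) * g * (k : G)⁻¹) * q⁻¹ = (k : G) * g * (k : G)⁻¹ ∨
      q * ((k : G) * g * (k : G)⁻¹) * q⁻¹ = z * ((k : G) * g * (k : G)⁻¹)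
    rw [show q * ((k : G) * g * (k : G)⁻¹) * q⁻¹ =
      k * (((k : G)⁻¹ * q * k) * g * ((k : G)⁻¹ * q * k)⁻¹) * (k : G)⁻¹ by group]
    rcases hg.2 _ hq' with e | e <;> rw [e]
    · exact Or.inl rfl
    · refine Or.inr ?_
      show (k : G) * (z * g) * (k : G)⁻¹ = z * ((k : G) * g * (k : G)⁻¹)
      rw [← mul_assoc, hzc _ k.2, mul_assoc z, mul_assoc z]
  have hCS : S ≤ normalizer (C : Set G) := by
    intro k hk
    refine LocalEvenB.mem_normalizer_of_conj_mem fun g hg => ?_
    have := hCn.conj_mem ⟨g, hg.1⟩ hg ⟨k, hk⟩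
    exact this
  by_cases h2 : IsPGroup 2 C
  · exact hc (hWC.trans (le_pCoreOf (fun g hg => hg.1) hCS h2))
  · haveI : Fact (Nat.Prime 2) := ⟨Nat.prime_two⟩
    refine h2 (IsPGroup.iff_orderOf.2 fun g => ?_)
    obtain ⟨k, m, hm, he⟩ := Nat.exists_eq_two_pow_mul_odd (n := orderOf g) (orderOf_pos g).ne'
    refine ⟨k, ?_⟩
    suffices hm1 : m = 1 by rw [he, hm1, mul_one]
    set y : G := ((g ^ 2 ^ k : C) : G) with hy
    have hyo : orderOf y = m := by
      rw [hy, Subgroup.orderOf_coe, orderOf_pow' _ (by positivity), he,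
        Nat.gcd_mul_right_left, Nat.mul_div_cancel_left _ (by positivity)]
    have hyS : y ∈ S := ((g ^ 2 ^ k : C)).2.1
    have hyc : ∀ q ∈ R, q * y = y * q := by
      intro q hq
      rcases ((g ^ 2 ^ k : C)).2.2 q hq with e | e
      · exact mul_inv_eq_iff_eq_mul.1 e
      · exfalso
        have h1 : (q * y * q⁻¹) ^ m = 1 := by
          rw [← hyo, show q * y * q⁻¹ = MulAut.conj q y from rfl, ← map_pow,
            pow_orderOf_eq_one, map_one]
        rw [show q * y * q⁻¹ = z * y from e, (show Commute z y from (hzc y hyS).symm).mul_pow,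
          show y ^ m = 1 by rw [← hyo]; exact pow_orderOf_eq_one y, mul_one] at h1
        have h3 : orderOf z = 2 := orderOf_eq_prime (by rw [sq]; exact hzz) hz.2
        have := orderOf_dvd_of_pow_eq_one h1
        rw [h3] at this
        exact (Nat.not_even_iff_odd.2 hm) (even_iff_two_dvd.2 this)
    have hyR : y ∈ R := by
      obtain ⟨x, ⟨hx0, hx1⟩ | ⟨hx0, hx1⟩⟩ := (cg_adj_iff _ _).1 hav
      · have hyS' := hyS
        rw [hS, show v = _ from hx1, cg_stab_inr] at hyS'
        obtain ⟨y', hy', hye⟩ := hyS'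
        have hR' : R = (pCoreOf 2 B).map (MulAut.conj x).toMonoidHom := by
          rw [hR, show v = _ from hx1, rv, cg_stab_inr, pCoreOf_map_conj]
        rw [hR', ← hye]
        refine ⟨y', h.conB ⟨hy', mem_centralizer_iff.2 fun q hq => ?_⟩, rfl⟩
        apply (MulAut.conj x).injective
        rw [map_mul, map_mul]
        have := hyc (MulAut.conj x q) (hR' ▸ ⟨q, hq, rfl⟩)
        rw [← hye] at this
        exact this
      · rw [hx1] at h0; simp at h0
    obtain ⟨j, hj⟩ := IsPGroup.iff_orderOf.1 (pCoreOf_isPGroup' 2 S) ⟨y, hyR⟩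
    rw [orderOf_mk, hyo] at hj
    rcases j with _ | j
    · simpa using hj
    · rw [hj] at hm
      exact absurd hm (Nat.not_odd_iff_even.2 (Nat.even_pow.2 ⟨even_two, by omega⟩))

end Mix

end Cfsg.Agent.LocalEvenA.Gold
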